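import Cfsg.Agent.Lib.AschbacherOrth.Main

/-!
Groups of isometries of a quadratic form in odd dimension and odd characteristic: the geometric classes.
-/

set_option autoImplicit false
set_option linter.style.haveILetI false
set_option linter.unusedSectionVars false

namespace Cfsg.Agent.Lib.AschbacherOrth

open Cfsg.Geo Cfsg.Agent.Lib.PrimeDim.Basic Cfsg.Agent.Lib.PrimeDim.Fields Cfsg.Agent.Lib.Aschbacher
open Cfsg.Agent.Lib.AschbacherSp (Isom mem_isom gramForm_apply_isom gramForm_single gramForm_ext adj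
  gramForm_gramMatrix two_ne_zero' gramIn gramForm_in)
open scoped Matrix MatrixGroups Kronecker

variable {ι : Type} [Fintype ι] [DecidableEq ι] {F : Type*} [Field F] [Fintype F] {Q : (ι → F) → F}

local notation "B" => QuadraticMap.polar Q
local notation "G₀" => gramMatrix (QuadraticMap.polar Q)

section gram

variable (hQ : IsNondegenerateQuadraticForm Q) (hodd : Odd (Fintype.card F))
include hQ

theorem gram_eq : gramForm G₀ = B := funext₂ (gramForm_gramMatrix hQ.polar_bilinear)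

theorem sym_gram : Sym G₀ := by
  refine ⟨Matrix.ext fun i j => QuadraticMap.polar_comm Q _ _,
    (Cfsg.Agent.Lib.PrimeDim.Fields.isSesqui_of_bilinear hQ.polar_bilinear).det_ne_zero Function.bijective_id
      hQ.nondegenerate⟩

theorem polar_self (v : ι → F) : B v v = 2 * Q v := by
  have : Q (v + v) = 4 * Q v := by rw [← two_smul F v, hQ.smul]; ring
  rw [QuadraticMap.polar, this]
  ring

include hodd

theorem eq_half (v : ι → F) : Q v = B v v / 2 := by
  rw [polar_self hQ, mul_div_cancel_left₀ _ (two_ne_zero' hodd)]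

theorem isom_eq : Isom G₀ = Cfsg.isometryGroup F Q := by
  refine le_antisymm (fun g hg u v => ?_) (fun g hg => ?_)
  · show Q ((g : Matrix ι ι F) *ᵥ u) = Q u
    have h := gramForm_apply_isom hg u u
    rw [gram_eq hQ] at h
    rw [eq_half hQ hodd, eq_half hQ hodd u, h]
  · have hg' : ∀ v, Q ((g : Matrix ι ι F) *ᵥ v) = Q v := fun v => hg v v
    rw [mem_isom]
    refine gramForm_ext fun u v => ?_
    rw [← gramForm_apply, gram_eq hQ, QuadraticMap.polar, QuadraticMap.polar, ← Matrix.mulVec_add, hg', hg', hg']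

theorem singular_quad {W : Submodule F (ι → F)} (h : IsTotallySingularFor B W) : IsTotallySingularQuad Q W :=
  fun w hw => by rw [eq_half hQ hodd, h w hw w hw, zero_div]

theorem areIsometric {W W' : Submodule F (ι → F)} {g : GL ι F} (hg : g ∈ Isom G₀) (h : translate g W = W') :
    AreIsometricFor Q W W' := by
  have hinj : Function.Injective (Matrix.toLin' (g : Matrix ι ι F)) := fun a b hab => by
    simpa [inv_mulVec_cancel] using congrArg (fun w => ((g⁻¹ : GL ι F) : Matrix ι ι F) *ᵥ w) hab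
  refine ⟨(Submodule.equivMapOfInjective _ hinj W).trans (LinearEquiv.ofEq _ _ h), fun w => ?_⟩
  show Q ((g : Matrix ι ι F) *ᵥ (w : ι → F)) = _
  rw [isom_eq hQ hodd] at hg
  exact hg w w

/-- A rational structure of the polar form up to a scalar gives one of the quadratic form. -/
theorem exists_rational (hno : Odd (Fintype.card ι))
    (hstd : ∀ F₀ : Subfield F, IsQuadFormRationalStructure Q F₀ 1) {F₁ : Subfield F} {P : GL ι F} {ζ : F}
    (hζ : ζ ≠ 0) (hP : IsFormRationalStructure B F₁ ζ P) :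
    ∃ P' : GL ι F, IsQuadFormRationalStructure Q F₁ P' ∧ subfieldSubgroup F₁ P' = subfieldSubgroup F₁ P := by
  classical
  obtain ⟨j, hj⟩ := hno
  have hb := hQ.polar_bilinear
  have hsingle : ∀ i k, (Pi.single i (1 : F) : ι → F) k ∈ F₁ := fun i k => by
    rcases eq_or_ne i k with rfl | h
    · simp [F₁.one_mem]
    · simp [Pi.single_eq_of_ne' h, F₁.zero_mem]
  have hG : ∀ i k, G₀ i k ∈ F₁ := fun i k => by
    have h : ∀ u : ι → F, (∀ l, u l ∈ F₁) → Q u ∈ F₁ := fun u hu => by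
      have := hstd F₁ u hu
      rwa [Units.val_one, Matrix.one_mulVec] at this
    show QuadraticMap.polar Q _ _ ∈ F₁
    rw [QuadraticMap.polar]
    exact sub_mem (sub_mem (h _ fun l => add_mem (hsingle i l) (hsingle k l)) (h _ (hsingle i))) (h _ (hsingle k))
  have hdet : ∀ M : Matrix ι ι F, (∀ i k, M i k ∈ F₁) → M.det ∈ F₁ := fun M hM => by
    let M₁ : Matrix ι ι F₁ := fun i k => ⟨_, hM i k⟩
    have : M₁.map F₁.subtype = M := by ext i k; rfl
    rw [← this, ← RingHom.mapMatrix_apply, ← RingHom.map_det]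
    exact SetLike.coe_mem _
  set G' := (P : Matrix ι ι F)ᵀ * G₀ * (P : Matrix ι ι F) with hG'
  have hent : ∀ i k, ζ * G' i k ∈ F₁ := fun i k => by
    have h := hP _ _ (hsingle i) (hsingle k)
    rwa [← gram_eq hQ, gramForm_apply, gramForm_single] at h
  have hd := hdet (ζ • G') (fun i k => hent i k)
  rw [Matrix.det_smul, hG', Matrix.det_mul, Matrix.det_mul, Matrix.det_transpose, hj] at hd
  set s : F := ζ ^ j * (P : Matrix ι ι F).det with hs
  have hG0 := (sym_gram hQ).det_ne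
  have hPd : (P : Matrix ι ι F).det ≠ 0 := ((Matrix.isUnit_iff_isUnit_det _).mp P.isUnit).ne_zero
  have hs0 : s ≠ 0 := mul_ne_zero (pow_ne_zero _ hζ) hPd
  have hd' : ζ * s ^ 2 * (G₀).det ∈ F₁ := by
    convert hd using 1
    rw [hs]
    ring
  have hμ : s⁻¹ ^ 2 * ζ⁻¹ ∈ F₁ := by
    have : s⁻¹ ^ 2 * ζ⁻¹ = (G₀).det / (ζ * s ^ 2 * (G₀).det) := by field_simp
    rw [this]
    exact div_mem (hdet _ hG) hd'
  let σ : GL ι F := Units.map (Matrix.scalar ι : F →+* Matrix ι ι F).toMonoidHom (Units.mk0 s⁻¹ (inv_ne_zero hs0))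
  have hσ : (σ : Matrix ι ι F) = s⁻¹ • (1 : Matrix ι ι F) := by simp [σ, Matrix.smul_one_eq_diagonal]
  refine ⟨P * σ, fun u hu => ?_, ?_⟩
  · have hpv : ((P * σ : GL ι F) : Matrix ι ι F) *ᵥ u = s⁻¹ • ((P : Matrix ι ι F) *ᵥ u) := by
      rw [Units.val_mul, hσ, ← Matrix.mulVec_mulVec, Matrix.smul_mulVec, Matrix.one_mulVec, Matrix.mulVec_smul]
    rw [hpv, eq_half hQ hodd, hb.smul_left, hb.smul_right]
    refine div_mem ?_ (show (2 : F) ∈ F₁ from one_add_one_eq_two (R := F) ▸ add_mem F₁.one_mem F₁.one_mem)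
    rw [show s⁻¹ * (s⁻¹ * B ((P : Matrix ι ι F) *ᵥ u) ((P : Matrix ι ι F) *ᵥ u))
      = s⁻¹ ^ 2 * ζ⁻¹ * (ζ * B ((P : Matrix ι ι F) *ᵥ u) ((P : Matrix ι ι F) *ᵥ u)) by field_simp]
    exact mul_mem hμ (hP u u hu hu)
  · have hc : ∀ x : GL ι F, σ * x = x * σ := fun x => Units.ext (by simp [hσ])
    rw [subfieldSubgroup, subfieldSubgroup]
    congr 1
    refine MonoidHom.ext fun x => ?_
    show P * σ * x * (P * σ)⁻¹ = P * x * P⁻¹
    rw [mul_assoc P σ x, hc, mul_inv_rev]
    group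

/-- A decomposition into isometric lines gives a subfield structure over every subfield. -/
theorem of_lines (hno : Odd (Fintype.card ι)) (hstd : ∀ F₀ : Subfield F, IsQuadFormRationalStructure Q F₀ 1)
    {t : ℕ} {D : Fin t → Submodule F (ι → F)} (hD : IsNondegenerateMDecomposition B 1 D)
    (hi : ∀ i j, ∃ g ∈ Isom G₀, translate g (D i) = D j) {H : Subgroup (GL ι F)} (hHI : H ≤ Isom G₀)
    (hH : H ≤ decompositionStabilizer D) (F₁ : Subfield F) :
    ∃ P : GL ι F, IsQuadFormRationalStructure Q F₁ P ∧ H ≤ subfieldSubgroup F₁ P := by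
  classical
  have hd := hD.decomp
  have hb := hQ.polar_bilinear
  have ht : Fintype.card (Fin t) = Fintype.card ι := by
    rw [Fintype.card_fin, ← Cfsg.Agent.Lib.AschbacherSp.decomposition_card hd, mul_one]
  let e : Fin t ≃ ι := Fintype.equivOfCardEq ht
  let i₀ : Fin t := ⟨0, by have := hd.two_le; omega⟩
  obtain ⟨v₀, hv₀, hv₀0⟩ := Submodule.exists_mem_ne_zero_of_ne_bot (p := D i₀) (fun h => by
    have := hd.finrank_eq i₀
    rw [h, finrank_bot] at this
    exact zero_ne_one this)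
  choose g hg hgD using hi i₀
  let v : Fin t → ι → F := fun i => (g i : Matrix ι ι F) *ᵥ v₀
  have hvD : ∀ i, v i ∈ D i := fun i => by
    rw [← hgD i]
    exact ⟨v₀, hv₀, rfl⟩
  set c := B v₀ v₀ with hcdef
  have hvv : ∀ i, B (v i) (v i) = c := fun i => by
    rw [hcdef, ← gram_eq hQ]
    exact gramForm_apply_isom (hg i) v₀ v₀
  have hline : ∀ i, ∀ x ∈ D i, ∃ a : F, x = a • v i := fun i x hx => by
    have hv0 : v i ≠ 0 := fun h => hv₀0 (by
      simpa [v, inv_mulVec_cancel] using congrArg (fun w => (((g i)⁻¹ : GL ι F) : Matrix ι ι F) *ᵥ w) h)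
    obtain ⟨a, ha⟩ := (finrank_eq_one_iff_of_nonzero' (⟨v i, hvD i⟩ : D i) (by simpa using hv0)).mp
      (hd.finrank_eq i) ⟨x, hx⟩
    exact ⟨a, (congrArg Subtype.val ha).symm⟩
  have hc0 : c ≠ 0 := fun h => by
    obtain ⟨x, hx, hne⟩ := (hD.nondegenerate i₀ v₀ hv₀ hv₀0).2
    obtain ⟨a, rfl⟩ := hline i₀ x hx
    obtain ⟨b, hb'⟩ := hline i₀ v₀ hv₀
    apply hne
    have hb0 : b ≠ 0 := fun h0 => hv₀0 (by rw [hb', h0, zero_smul])
    rw [show a • v i₀ = (a * b⁻¹) • v₀ by rw [hb', smul_smul, mul_assoc, inv_mul_cancel₀ hb0, mul_one],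
      hb.smul_right, ← hcdef, h, mul_zero]
  let M : Matrix ι ι F := Matrix.of fun p i => v (e.symm i) p
  have hMs : ∀ i, M *ᵥ Pi.single i 1 = v (e.symm i) := fun i => by
    funext p; simp [M, Matrix.mulVec_single_one]
  have hMG : Mᵀ * G₀ * M = c • (1 : Matrix ι ι F) := gramForm_ext fun x y => by
    have key : ∀ i k, (Mᵀ * G₀ * M) i k = (c • (1 : Matrix ι ι F)) i k := fun i k => by
      rw [← gramForm_single (Mᵀ * G₀ * M), ← gramForm_apply, gram_eq hQ, hMs, hMs]
      rcases eq_or_ne i k with rfl | h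
      · simp [hvv]
      · rw [hD.orthogonal _ _ (fun he => h (e.symm.injective he)) _ (hvD _) _ (hvD _)]
        simp [h]
    rw [Matrix.ext key]
  have hMd : M.det ≠ 0 := fun h => by
    have h1 := congrArg Matrix.det hMG
    rw [Matrix.det_mul, Matrix.det_mul, h, mul_zero, Matrix.det_smul, Matrix.det_one, mul_one] at h1
    exact pow_ne_zero _ hc0 h1.symm
  let P : GL ι F := Matrix.GeneralLinearGroup.mkOfDetNeZero M hMd
  have hP : (P : Matrix ι ι F) = M := rfl
  obtain ⟨P', hP', hPeq⟩ := exists_rational hQ hodd hno hstd (F₁ := F₁) (P := P) (inv_ne_zero hc0)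
    (fun u w hu hw => by
      rw [hP, ← gram_eq hQ, gramForm_apply, hMG, gramForm, Matrix.smul_mulVec, Matrix.one_mulVec, dotProduct_smul,
        smul_eq_mul, inv_mul_cancel_left₀ hc0]
      exact Subfield.sum_mem _ fun i _ => mul_mem (hu i) (hw i))
  refine ⟨P', hP', hPeq ▸ fun h hh => ?_⟩
  obtain ⟨σ, hσ⟩ := hH hh
  have hmap : ∀ i, ∃ a : F, (a = 1 ∨ a = -1) ∧ (h : Matrix ι ι F) *ᵥ v i = a • v (σ i) := fun i => by
    have hmem : (h : Matrix ι ι F) *ᵥ v i ∈ D (σ i) := by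
      rw [← hσ i, ← Matrix.toLin'_apply]
      exact Submodule.mem_map_of_mem (hvD i)
    obtain ⟨a, ha⟩ := hline (σ i) _ hmem
    refine ⟨a, ?_, ha⟩
    have h1 := gramForm_apply_isom (hHI hh) (v i) (v i)
    rw [ha, gram_eq hQ, hb.smul_left, hb.smul_right, hvv, hvv] at h1
    exact mul_self_eq_one_iff.mp (mul_right_cancel₀ hc0 (by linear_combination h1))
  choose a ha hav using hmap
  let M' : Matrix ι ι F := fun i k => if i = e (σ (e.symm k)) then a (e.symm k) else 0
  have hhM : (h : Matrix ι ι F) * M = M * M' := by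
    refine Matrix.ext_of_mulVec_single fun k => ?_
    rw [← Matrix.mulVec_mulVec, hMs, hav, ← Matrix.mulVec_mulVec,
      show M' *ᵥ Pi.single k 1 = a (e.symm k) • (Pi.single (e (σ (e.symm k))) 1 : ι → F) by
        funext i; simp [M', Matrix.mulVec, dotProduct, Pi.single_apply],
      Matrix.mulVec_smul, hMs, e.symm_apply_apply]
  refine ⟨P⁻¹ * h * P, Subgroup.mem_sup_left (scalar_entry_mem fun i k => ?_), by simp [mul_assoc]⟩
  rw [show ((P⁻¹ * h * P : GL ι F) : Matrix ι ι F) = M' by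
    rw [Units.val_mul, Units.val_mul, hP, mul_assoc, hhM, ← hP, ← mul_assoc, Units.inv_mul, one_mul]]
  show (if i = e (σ (e.symm k)) then a (e.symm k) else 0) ∈ F₁
  split
  · rcases ha (e.symm k) with h1 | h1 <;> rw [h1]
    · exact F₁.one_mem
    · exact neg_mem F₁.one_mem
  · exact F₁.zero_mem

end gram

section field

variable {G : Matrix ι ι F}

/-- The degree of a field subalgebra divides the dimension. -/
theorem field_dvd' [Nonempty ι] {r : ℕ} {K : Subalgebra F (Matrix ι ι F)} (hK : IsFieldSubalgebra r K) :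
    r ∣ Fintype.card ι := by
  classical
  letI : Field K := IsField.toField (R := K)
    { exists_pair_ne := ⟨0, 1, fun he => zero_ne_one (congrArg Subtype.val he)⟩
      mul_comm := fun x y => Subtype.ext (hK.comm x x.2 y y.2)
      mul_inv_cancel := fun {x} hx => by
        obtain ⟨y, hy, hxy⟩ := hK.inv x x.2 (fun he => hx (Subtype.ext he))
        exact ⟨⟨y, hy⟩, Subtype.ext hxy⟩ }
  letI : Module K (ι → F) :=
    Module.compHom _ (((Matrix.toLinAlgEquiv' : Matrix ι ι F ≃ₐ[F] ((ι → F) →ₗ[F] ι → F)).toAlgHom.comp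
      K.val).toRingHom)
  have hK' : Nat.card K = Fintype.card F ^ r := by
    rw [Module.natCard_eq_pow_finrank (K := F) (V := K), hK.finrank_eq, Nat.card_eq_fintype_card]
  haveI : Finite K := Finite.of_injective (fun x : K => (x : Matrix ι ι F)) Subtype.val_injective
  haveI : Module.Finite K (ι → F) := Module.Finite.of_finite
  have h := Module.natCard_eq_pow_finrank (K := K) (V := ι → F)
  rw [hK', ← pow_mul, Nat.card_eq_fintype_card, Fintype.card_fun] at h
  have h := Nat.pow_right_injective (Fintype.one_lt_card (α := F)) h.symm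
  exact ⟨_, h.symm⟩

/-- Isometries normalising a self-adjoint field of full prime degree are reducible. -/
theorem not_irred_of_field (hG : Sym G) (h3 : 3 ≤ Fintype.card ι) (hno : Odd (Fintype.card ι))
    (hp : (Fintype.card ι).Prime) {K : Subalgebra F (Matrix ι ι F)}
    (hK : IsFieldSubalgebra (Fintype.card ι) K) (hs : IsSelfAdjointFor (gramForm G) K) {H : Subgroup (GL ι F)}
    (hHI : H ≤ Isom G) (hH : H ≤ subalgebraNormalizer K) : ¬ Irred H := by
  classical
  haveI : Nonempty ι := Fintype.card_pos_iff.mp (by omega)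
  intro hirr
  letI : Field K := IsField.toField (R := K)
    { exists_pair_ne := ⟨0, 1, fun he => zero_ne_one (congrArg Subtype.val he)⟩
      mul_comm := fun x y => Subtype.ext (hK.comm x x.2 y y.2)
      mul_inv_cancel := fun {x} hx => by
        obtain ⟨y, hy, hxy⟩ := hK.inv x x.2 (fun he => hx (Subtype.ext he))
        exact ⟨⟨y, hy⟩, Subtype.ext hxy⟩ }
  haveI : Finite K := Finite.of_injective (fun x : K => (x : Matrix ι ι F)) Subtype.val_injective
  obtain ⟨v₀, hv₀⟩ : ∃ v : ι → F, v ≠ 0 := exists_ne 0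
  let ev : K →ₗ[F] (ι → F) :=
    { toFun := fun k => (k : Matrix ι ι F) *ᵥ v₀
      map_add' := fun a b => Matrix.add_mulVec _ _ v₀
      map_smul' := fun c a => by simp [Matrix.smul_mulVec] }
  have hev : Function.Injective ev := by
    rw [← LinearMap.ker_eq_bot, eq_bot_iff]
    intro k hk
    by_contra hk0
    obtain ⟨y, hy, hky⟩ := hK.inv k k.2 (fun h => hk0 (Subtype.ext h))
    apply hv₀
    rw [LinearMap.mem_ker] at hk
    rw [← Matrix.one_mulVec v₀, ← hky, hK.comm k k.2 y hy, ← Matrix.mulVec_mulVec]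
    show y *ᵥ ev k = 0
    rw [hk, Matrix.mulVec_zero]
  have hsurj : Function.Surjective ev :=
    (LinearMap.injective_iff_surjective_of_finrank_eq_finrank
      (by rw [hK.finrank_eq, Module.finrank_pi])).mp hev
  have hmax : ∀ M : Matrix ι ι F, (∀ k ∈ K, M * k = k * M) → M ∈ K := fun M hM => by
    obtain ⟨k, hk⟩ := hsurj (M *ᵥ v₀)
    change (k : Matrix ι ι F) *ᵥ v₀ = M *ᵥ v₀ at hk
    suffices M = k by rw [this]; exact k.2
    refine Matrix.ext_of_mulVec_single fun i => ?_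
    obtain ⟨l, hl⟩ := hsurj (Pi.single i 1)
    change (l : Matrix ι ι F) *ᵥ v₀ = _ at hl
    rw [← hl, Matrix.mulVec_mulVec, Matrix.mulVec_mulVec, hM _ l.2, hK.comm k k.2 l l.2, ← Matrix.mulVec_mulVec,
      ← Matrix.mulVec_mulVec, hk]
  -- the action on the field
  let cj : H → (K → K) := fun h k =>
    ⟨((h : GL ι F) : Matrix ι ι F) * (k : Matrix ι ι F) * (((h : GL ι F)⁻¹ : GL ι F) : Matrix ι ι F),
      (hH h.2 k).mp k.2⟩
  have hcj : ∀ (a b : H) (k : K), cj (a * b) k = cj a (cj b k) := fun a b k =>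
    Subtype.ext (by simp [cj, mul_assoc])
  have hcj1 : ∀ k, cj 1 k = k := fun k => Subtype.ext (by simp [cj])
  let φ₀ : H → (K ≃ₐ[F] K) := fun h =>
    AlgEquiv.ofBijective
      ({ toFun := cj h
         map_one' := Subtype.ext (by simp [cj])
         map_mul' := fun a b => Subtype.ext (by simp [cj, mul_assoc])
         map_zero' := Subtype.ext (by simp [cj])
         map_add' := fun a b => Subtype.ext (by simp [cj, mul_add, add_mul])
         commutes' := fun r => Subtype.ext (by simp [cj, Algebra.algebraMap_eq_smul_one]) } : K →ₐ[F] K)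
      ⟨fun a b hab => by
          have h1 := congrArg (cj h⁻¹) (show cj h a = cj h b from hab)
          rwa [← hcj, ← hcj, inv_mul_cancel, hcj1, hcj1] at h1,
        fun a => ⟨cj h⁻¹ a, by show cj h (cj h⁻¹ a) = a; rw [← hcj, mul_inv_cancel, hcj1]⟩⟩
  let φ : H →* (K ≃ₐ[F] K) := MonoidHom.mk' φ₀ fun a b => AlgEquiv.ext fun k => hcj a b k
  have hker : ∀ h : H, φ h = 1 → ∀ v : ι → F,
      ((h : GL ι F) : Matrix ι ι F) *ᵥ v = v ∨ ((h : GL ι F) : Matrix ι ι F) *ᵥ v = -v := fun h hφ v => by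
    set M := ((h : GL ι F) : Matrix ι ι F) with hMdef
    have hMK : M ∈ K := hmax M fun k hk => by
      have h1 : cj h ⟨k, hk⟩ = ⟨k, hk⟩ := show φ h ⟨k, hk⟩ = _ by rw [hφ]; rfl
      have h2 := congrArg (fun x : K => (x : Matrix ι ι F) * M) h1
      simpa [cj, mul_assoc, hMdef] using h2
    have hM2 : M * M = 1 := by
      have h1 := eq_adj hG (hs M hMK)
      rw [adj_isom hG (hHI h.2)] at h1
      nth_rw 2 [h1]
      exact Units.mul_inv _
    by_cases hc : M = 1
    · left; rw [hc, Matrix.one_mulVec]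
    right
    obtain ⟨y, hy, hMy⟩ := hK.inv (M - 1) (sub_mem hMK (one_mem K)) (sub_ne_zero.mpr hc)
    have hM1 : M + 1 = 0 := by
      calc M + 1 = ((M - 1) * y) * (M + 1) := by rw [hMy, one_mul]
        _ = y * ((M - 1) * (M + 1)) := by
            rw [hK.comm _ (sub_mem hMK (one_mem K)) y hy, mul_assoc]
        _ = 0 := by rw [sub_mul, one_mul, mul_add, mul_one, hM2]; abel_nf; simp
    rw [eq_neg_of_add_eq_zero_left hM1, Matrix.neg_mulVec, Matrix.one_mulVec]
  -- an invariant subspace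
  suffices ∃ W : Submodule F (ι → F), W ≠ ⊥ ∧ W ≠ ⊤ ∧ Invariant H W by
    obtain ⟨W, h1, h2, h⟩ := this
    rcases hirr W h with h' | h'
    · exact h1 h'
    · exact h2 h'
  have hkerinv : ∀ (W : Submodule F (ι → F)) (h : H), φ h = 1 → ∀ w ∈ W,
      ((h : GL ι F) : Matrix ι ι F) *ᵥ w ∈ W := fun W h hh w hw => by
    rcases hker h hh w with e | e <;> rw [e]
    · exact hw
    · exact W.neg_mem hw
  have hsmall : ∀ W : Submodule F (ι → F), Module.finrank F W < Fintype.card ι → W ≠ ⊤ := fun W hW h => by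
    rw [h, finrank_top, Module.finrank_pi] at hW
    exact lt_irrefl _ hW
  by_cases hall : ∀ h : H, φ h = 1
  · refine ⟨Submodule.span F {v₀}, by simpa using hv₀, hsmall _ (by rw [finrank_span_singleton hv₀]; omega), ?_⟩
    exact fun h hh w hw => hkerinv _ ⟨h, hh⟩ (hall _) w hw
  push Not at hall
  obtain ⟨g, hg⟩ := hall
  have hcard : Nat.card (K ≃ₐ[F] K) = Fintype.card ι := by
    rw [IsGalois.card_aut_eq_finrank, hK.finrank_eq]
  haveI : Fact (Fintype.card ι).Prime := ⟨hp⟩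
  haveI : Finite (K ≃ₐ[F] K) := Nat.finite_of_card_ne_zero (by rw [hcard]; omega)
  set n := Fintype.card ι with hn
  have hgn : φ (g ^ n) = 1 := by rw [map_pow, ← hcard, pow_card_eq_one']
  -- the normalised generator
  obtain ⟨A, hA, hAn, hAW⟩ : ∃ A : Matrix ι ι F,
      (A = ((g : GL ι F) : Matrix ι ι F) ∨ A = -((g : GL ι F) : Matrix ι ι F)) ∧ A ^ n *ᵥ v₀ = v₀ ∧
      ∀ W : Submodule F (ι → F), (∀ w ∈ W, A *ᵥ w ∈ W) → ∀ w ∈ W, ((g : GL ι F) : Matrix ι ι F) *ᵥ w ∈ W := by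
    have hpow : ((g ^ n : H) : GL ι F).val = ((g : GL ι F) : Matrix ι ι F) ^ n := by
      rw [SubgroupClass.coe_pow, Units.val_pow_eq_pow_val]
    rcases hker _ hgn v₀ with e | e <;> rw [hpow] at e
    · exact ⟨_, Or.inl rfl, e, fun W hW => hW⟩
    · refine ⟨_, Or.inr rfl, ?_, fun W hW w hw => ?_⟩
      · rw [hno.neg_pow, Matrix.neg_mulVec, e, neg_neg]
      · simpa [Matrix.neg_mulVec] using W.neg_mem (hW w hw)
  have hinv : ∀ W : Submodule F (ι → F), (∀ w ∈ W, A *ᵥ w ∈ W) → Invariant H W := by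
    intro W hW h hh w hw
    have hg' : ∀ (j : ℕ), ∀ u ∈ W, (((g ^ j : H) : GL ι F) : Matrix ι ι F) *ᵥ u ∈ W := fun j => by
      induction j with
      | zero => intro u hu; simpa using hu
      | succ j ih =>
        intro u hu
        rw [pow_succ, Subgroup.coe_mul, Units.val_mul, ← Matrix.mulVec_mulVec]
        exact ih _ (hAW W hW u hu)
    have hz : φ ⟨h, hh⟩ ∈ Submonoid.powers (φ g) := by
      rw [mem_powers_iff_mem_zpowers]
      exact mem_zpowers_of_prime_card hcard hg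
    obtain ⟨j, hj⟩ := hz
    have hk : φ (⟨h, hh⟩ * (g ^ j)⁻¹) = 1 := by
      rw [map_mul, map_inv, map_pow]; simp only at hj; rw [hj, mul_inv_cancel]
    have hw' := hkerinv W _ hk _ (hg' j w hw)
    rw [Matrix.mulVec_mulVec, ← Units.val_mul, ← Subgroup.coe_mul, inv_mul_cancel_right] at hw'
    exact hw'
  set s := ∑ i ∈ Finset.range n, A ^ i *ᵥ v₀ with hsdef
  by_cases hs0 : s = 0
  · let W : Submodule F (ι → F) := Submodule.span F (Set.range fun i : Fin (n - 1) => A ^ (i : ℕ) *ᵥ v₀)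
    have hmem : ∀ i < n - 1, A ^ i *ᵥ v₀ ∈ W := fun i hi => Submodule.subset_span ⟨⟨i, hi⟩, rfl⟩
    have hlast : ∀ i ≤ n - 1, A ^ i *ᵥ v₀ ∈ W := fun i hi => by
      rcases lt_or_eq_of_le hi with h | rfl
      · exact hmem i h
      have h1 : s = (∑ i ∈ Finset.range (n - 1), A ^ i *ᵥ v₀) + A ^ (n - 1) *ᵥ v₀ := by
        rw [hsdef, show n = n - 1 + 1 by omega, Finset.sum_range_succ, Nat.add_sub_cancel]
      rw [eq_neg_of_add_eq_zero_right (h1.symm.trans hs0)]
      exact W.neg_mem (Submodule.sum_mem _ fun i hi => hmem i (Finset.mem_range.mp hi))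
    refine ⟨W, fun h => hv₀ ?_, hsmall _ ?_, hinv W fun w hw => ?_⟩
    · have h1 := hmem 0 (by omega)
      rw [h, Submodule.mem_bot, pow_zero, Matrix.one_mulVec] at h1
      exact h1
    · refine lt_of_le_of_lt (finrank_range_le_card _) ?_
      rw [Fintype.card_fin]; omega
    · induction hw using Submodule.span_induction with
      | mem x hx =>
        obtain ⟨i, rfl⟩ := hx
        rw [Matrix.mulVec_mulVec, ← pow_succ']
        exact hlast _ (by omega)
      | zero => rw [Matrix.mulVec_zero]; exact W.zero_mem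
      | add x y _ _ hx hy => rw [Matrix.mulVec_add]; exact W.add_mem hx hy
      | smul c x _ hx => rw [Matrix.mulVec_smul]; exact W.smul_mem c hx
  · have hAs : A *ᵥ s = s := by
      have h1 := Finset.sum_range_succ' (fun i => A ^ i *ᵥ v₀) n
      rw [Finset.sum_range_succ, hAn, pow_zero, Matrix.one_mulVec] at h1
      rw [hsdef, Matrix.mulVec_sum]
      simp only [Matrix.mulVec_mulVec, ← pow_succ']
      exact add_right_cancel h1.symm
    refine ⟨Submodule.span F {s}, by simpa using hs0, hsmall _ (by rw [finrank_span_singleton hs0]; omega),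
      hinv _ fun w hw => ?_⟩
    obtain ⟨c, rfl⟩ := Submodule.mem_span_singleton.mp hw
    rw [Matrix.mulVec_smul, hAs]
    exact hw

end field

/-- A non-degenerate symplectic form needs even dimension in odd characteristic. -/
theorem not_symplectic_odd (hodd : Odd (Fintype.card F)) {d : ℕ} (hd : Odd d) {f : (Fin d → F) → (Fin d → F) → F}
    (hf : IsSymplecticForm f) : False := by
  refine (isSesqui_of_bilinear hf.bilinear).det_ne_zero Function.bijective_id hf.nondegenerate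
    (det_eq_zero_of_skew_odd hodd (by simpa using hd) ?_)
  ext i j
  exact hf.skew _ _

/-- A tensor product of two symmetric forms of the same odd dimension is a tensor square. -/
theorem tensor_square (hodd : Odd (Fintype.card F)) {d : ℕ} (hd : Odd d) {f : (ι → F) → (ι → F) → F}
    {e : ι ≃ Fin d × Fin d} {P : GL ι F} {f₁ f₂ : (Fin d → F) → (Fin d → F) → F} (h1 : IsSymmetricForm f₁)
    (h2 : IsSymmetricForm f₂) (hf : IsTensorFormStructure id f f₁ f₂ e P) :
    ∃ (e' : ι ≃ (Fin 2 → Fin d)) (P' : GL ι F) (f' : (Fin d → F) → (Fin d → F) → F), IsSymmetricForm f' ∧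
      IsTensorPowerFormStructure id f f' e' P' ∧
      tensorProductSubgroup d d e P ≤ tensorWreathSubgroup d 2 e' P' := by
  classical
  obtain ⟨c, hc, hf⟩ := hf
  have key : ∀ {f₀ : (Fin d → F) → (Fin d → F) → F}, IsSymmetricForm f₀ →
      ∃ (M : Matrix (Fin d) (Fin d) F) (κ : F), κ ≠ 0 ∧ M.det ≠ 0 ∧ Mᵀ * gramMatrix f₀ * M = κ • 1 := by
    intro f₀ h
    have hs : (gramMatrix f₀)ᵀ = gramMatrix f₀ := by ext i j; exact h.symm _ _
    obtain ⟨M, κ, hκ, hM⟩ := exists_frame_odd hodd hd hs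
      ((isSesqui_of_bilinear h.bilinear).det_ne_zero Function.bijective_id h.nondegenerate)
    refine ⟨M, κ, hκ, fun h0 => ?_, hM⟩
    have := congrArg Matrix.det hM
    rw [Matrix.det_mul, h0, mul_zero, Matrix.det_smul, Matrix.det_one, mul_one] at this
    exact pow_ne_zero _ hκ this.symm
  obtain ⟨M₁, κ₁, hκ₁, hd₁, hM₁⟩ := key h1
  obtain ⟨M₂, κ₂, hκ₂, hd₂, hM₂⟩ := key h2
  let K₀ : GL (Fin d × Fin d) F := Matrix.GeneralLinearGroup.mkOfDetNeZero (M₁ ⊗ₖ M₂) (by
    rw [Matrix.det_kronecker]; exact mul_ne_zero (pow_ne_zero _ hd₁) (pow_ne_zero _ hd₂))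
  have hK₀ : K₀ ∈ kroneckerSubgroup d d F :=
    ⟨Matrix.GeneralLinearGroup.mkOfDetNeZero M₁ hd₁, Matrix.GeneralLinearGroup.mkOfDetNeZero M₂ hd₂, rfl⟩
  let P' : GL ι F := P * glReindex e.symm K₀
  refine ⟨e.trans (finTwoArrowEquiv (Fin d)).symm, P', gramForm 1,
    isSymmetric_gram Matrix.transpose_one (by simp), ⟨c * κ₁ * κ₂, mul_ne_zero (mul_ne_zero hc hκ₁) hκ₂,
      fun x y => ?_⟩, le_trans ?_ (tensorProduct_le_wreath e P')⟩
  · set π := (finTwoArrowEquiv (Fin d)).symm with hπ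
    have hvec : ∀ z : (Fin 2 → Fin d) → F, (P' : Matrix ι ι F) *ᵥ (z ∘ e.trans π)
        = (P : Matrix ι ι F) *ᵥ (((M₁ ⊗ₖ M₂) *ᵥ (z ∘ π)) ∘ e) := fun z => by
      rw [Units.val_mul, ← Matrix.mulVec_mulVec]
      congr 1
      funext i
      show ((M₁ ⊗ₖ M₂).submatrix e e *ᵥ ((z ∘ π) ∘ e)) i = _
      rw [Matrix.submatrix_mulVec_equiv]
      simp [Function.comp_assoc]
    have hform : ∀ (A : Matrix (Fin d × Fin d) (Fin d × Fin d) F) x y, formOfGram id A x y = gramForm A x y :=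
      fun A x y => by simp [formOfGram, gramForm, dotProduct, Matrix.mulVec, Finset.mul_sum, mul_assoc]
    have hone : ∀ a b : Fin 2 → Fin d, (∏ i, gramMatrix (gramForm (1 : Matrix (Fin d) (Fin d) F)) (a i) (b i))
        = if a = b then 1 else 0 := fun a b => by
      simp only [gramMatrix, gramForm_single, Matrix.one_apply, Finset.prod_boole, Finset.mem_univ, true_implies,
        funext_iff]
    rw [hvec, hvec, hf, hform, gramForm_apply, ← Matrix.kroneckerMap_transpose, ← Matrix.mul_kronecker_mul,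
      ← Matrix.mul_kronecker_mul, hM₁, hM₂, Matrix.smul_kronecker, Matrix.kronecker_smul, smul_smul,
      Matrix.one_kronecker_one, gramForm, Matrix.smul_mulVec, Matrix.one_mulVec, dotProduct_smul, smul_eq_mul,
      dotProduct]
    rw [← Equiv.sum_comp π.symm]
    simp only [hone, Function.comp_apply, Equiv.apply_symm_apply, id_eq, mul_ite, mul_one, mul_zero, ite_mul,
      zero_mul, Finset.sum_ite_eq, Finset.mem_univ, if_true]
    ring
  · rintro _ ⟨_, ⟨X, hX, rfl⟩, rfl⟩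
    refine ⟨_, ⟨K₀⁻¹ * X * K₀, mul_mem (mul_mem (inv_mem hK₀) hX) hK₀, rfl⟩, ?_⟩
    show P' * glReindex e.symm (K₀⁻¹ * X * K₀) * P'⁻¹ = P * glReindex e.symm X * P⁻¹
    simp only [P', map_mul, map_inv]
    group

/-- The geometric outcomes for isometries of a quadratic form in odd dimension. -/
def OddOutcome (Q : (ι → F) → F) (H : Subgroup (GL ι F)) : Prop :=
  (∃ W : Submodule F (ι → F), W ≠ ⊥ ∧ IsTotallySingularQuad Q W ∧ H ≤ subspaceStabilizer W) ∨
  (∃ W : Submodule F (ι → F), W ≠ ⊥ ∧ W ≠ ⊤ ∧ IsNondegenerateOn (QuadraticMap.polar Q) W ∧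
    H ≤ subspaceStabilizer W) ∨
  (∃ (t k : ℕ) (D : Fin t → Submodule F (ι → F)), (1 < k ∨ k = 1 ∧ (Fintype.card F).Prime) ∧
    IsOrthogonalMDecomposition Q k D ∧ t * k = Fintype.card ι ∧ H ≤ decompositionStabilizer D) ∨
  (∃ (r : ℕ) (K : Subalgebra F (Matrix ι ι F)), r.Prime ∧ Fintype.card ι ≠ r ∧ r ∣ Fintype.card ι ∧
    IsFieldSubalgebra r K ∧ IsSelfAdjointFor (QuadraticMap.polar Q) K ∧ H ≤ subalgebraNormalizer K) ∨
  (∃ (n₁ n₂ : ℕ) (e : ι ≃ Fin n₁ × Fin n₂) (P : GL ι F) (f₁ : (Fin n₁ → F) → (Fin n₁ → F) → F)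
      (f₂ : (Fin n₂ → F) → (Fin n₂ → F) → F), 3 ≤ n₁ ∧ n₁ < n₂ ∧ n₁ * n₂ = Fintype.card ι ∧
      IsSymmetricForm f₁ ∧ IsSymmetricForm f₂ ∧ IsTensorFormStructure id (QuadraticMap.polar Q) f₁ f₂ e P ∧
      H ≤ tensorProductSubgroup n₁ n₂ e P) ∨
  (∃ (F₀ : Subfield F) (r : ℕ) (P : GL ι F), r.Prime ∧ Fintype.card F = Nat.card F₀ ^ r ∧
      IsQuadFormRationalStructure Q F₀ P ∧ H ≤ subfieldSubgroup F₀ P) ∨
  (∃ (k t : ℕ) (e : ι ≃ (Fin t → Fin k)) (P : GL ι F) (f₁ : (Fin k → F) → (Fin k → F) → F),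
      3 ≤ k ∧ 2 ≤ t ∧ k ^ t = Fintype.card ι ∧ ¬ (Fintype.card F = 3 ∧ k = 3) ∧ IsSymmetricForm f₁ ∧
      IsTensorPowerFormStructure id (QuadraticMap.polar Q) f₁ e P ∧ H ≤ tensorWreathSubgroup k t e P)

/-- Aschbacher's theorem for a quadratic form in odd dimension and odd characteristic. -/
theorem odd_cases (hQ : IsNondegenerateQuadraticForm Q) (hodd : Odd (Fintype.card F))
    (hno : Odd (Fintype.card ι)) (h3 : 3 ≤ Fintype.card ι)
    (hstd : ∀ F₀ : Subfield F, IsQuadFormRationalStructure Q F₀ 1) (H : Subgroup (GL ι F))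
    (hH : H ≤ Cfsg.isometryGroup F Q) : OddOutcome Q H ∨ InOrthogonalResidualClass H := by
  classical
  haveI : Nonempty ι := Fintype.card_pos_iff.mp (by omega)
  have hG := sym_gram hQ
  have hg := gram_eq hQ
  rw [← isom_eq hQ hodd] at hH
  have hred : ∀ W : Submodule F (ι → F), Invariant H W → W ≠ ⊥ → W ≠ ⊤ → OddOutcome Q H := by
    intro W hW h0 h1
    have hW' := invariant_perp hG hH hW
    by_cases hR : W ⊓ Cfsg.Agent.Lib.AschbacherSp.perp G₀ W = ⊥
    · exact Or.inr (Or.inl ⟨W, h0, h1, hg ▸ nondegOn_of_inf hG hR, invariant_le_stab hW⟩)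
    · refine Or.inl ⟨_, hR, singular_quad hQ hodd (fun u hu v hv => ?_),
        invariant_le_stab fun x hx v hv => ⟨hW x hx v hv.1, hW' x hx v hv.2⟩⟩
      rw [← hg]
      exact Cfsg.Agent.Lib.AschbacherSp.mem_perp.mp hv.2 u hu.1
  by_cases hirr : Irred H
  swap
  · simp only [Irred, not_forall, not_or] at hirr
    obtain ⟨W, hW, h1, h2⟩ := hirr
    exact Or.inl (hred W hW h1 h2)
  rcases main hG hodd h3 H hH with hgeo | hres
  swap
  · exact Or.inr hres
  left
  have hne : ∀ {n₁ n₂ : ℕ}, n₁ * n₂ = Fintype.card ι → Odd n₁ ∧ Odd n₂ := fun h => Nat.odd_mul.mp (h ▸ hno)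
  rcases hgeo with ⟨W, h0, h1, h⟩ | ⟨W, h0, h1, h2, h⟩ | ⟨t, k, D, hD, hi, h⟩ | ⟨k, D, hk, -⟩ |
    ⟨r, K, hr, hK, hs, h⟩ | ⟨K, he, -⟩ | ⟨n₁, n₂, e, P, f₁, f₂, h2, h12, hs, hne', hf, h⟩ |
    ⟨F₀, r, P, ζ, hr, hq, hζ, hP, h⟩ | ⟨R, he, -⟩ | ⟨k, t, e, P, f₁, hk, ht, hs, hne', hf, h⟩
  · exact Or.inl ⟨W, h0, singular_quad hQ hodd (hg ▸ h1), h⟩
  · exact Or.inr (Or.inl ⟨W, h0, h1, hg ▸ h2, h⟩)
  · rw [hg] at hD
    by_cases hc : 1 < k ∨ k = 1 ∧ (Fintype.card F).Prime
    · refine Or.inr (Or.inr (Or.inl ⟨t, k, D, hc, ⟨hD, fun i j => ?_⟩,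
        Cfsg.Agent.Lib.AschbacherSp.decomposition_card hD.decomp, h⟩))
      obtain ⟨g, hgI, hgD⟩ := hi i j
      exact areIsometric hQ hodd hgI hgD
    · have hk : k = 1 := by have := hD.decomp.pos; omega
      subst hk
      have hbot : (⊥ : Subfield F) ≠ ⊤ := fun hb => by
        apply hc
        right
        refine ⟨rfl, ?_⟩
        obtain ⟨p, f, hp, _, -, hF⟩ := exists_char_card (F := F)
        have hc' := Subfield.card_bot (F := F) p
        rw [hb, Nat.card_congr (Equiv.subtypeUnivEquiv fun x => Subfield.mem_top x),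
          Nat.card_eq_fintype_card] at hc'
        rw [hc']
        exact hp.out
      obtain ⟨F₁, r, hr, -, hq⟩ := exists_prime_index hbot
      obtain ⟨P, hP, hle⟩ := of_lines hQ hodd hno hstd hD hi hH h F₁
      exact Or.inr (Or.inr (Or.inr (Or.inr (Or.inr (Or.inl ⟨F₁, r, P, hr, hq, hP, hle⟩)))))
  · exact absurd (hk ▸ even_two_mul k) (Nat.not_even_iff_odd.mpr hno)
  · by_cases hrn : Fintype.card ι = r
    · exact absurd hirr (not_irred_of_field hG h3 hno (hrn ▸ hr) (hrn ▸ hK) hs hH h)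
    · exact Or.inr (Or.inr (Or.inr (Or.inl ⟨r, K, hr, hrn, field_dvd' hK, hK, hg ▸ hs, h⟩)))
  · exact absurd he (Nat.not_even_iff_odd.mpr hno)
  · have hc : n₁ * n₂ = Fintype.card ι := by simp [Fintype.card_congr e]
    obtain ⟨ho1, ho2⟩ := hne hc
    rcases hs with ⟨hs1, hs2⟩ | ⟨hs1, -⟩
    swap
    · exact (not_symplectic_odd hodd ho1 hs1).elim
    have h31 : 3 ≤ n₁ := by obtain ⟨a, ha⟩ := ho1; omega
    rw [hg] at hf
    rcases lt_or_eq_of_le h12 with hlt | rfl
    · exact Or.inr (Or.inr (Or.inr (Or.inr (Or.inl ⟨n₁, n₂, e, P, f₁, f₂, h31, hlt, hc, hs1, hs2, hf, h⟩))))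
    · obtain ⟨e', P', f', hs', hf', hle⟩ := tensor_square hodd ho1 hs1 hs2 hf
      exact Or.inr (Or.inr (Or.inr (Or.inr (Or.inr (Or.inr ⟨n₁, 2, e', P', f', h31, le_rfl,
        by rw [sq, hc], fun hh => hne' ⟨hh.1, hh.2, hh.2⟩, hs', hf', h.trans hle⟩)))))
  · rw [hg] at hP
    obtain ⟨P', hP', heq⟩ := exists_rational hQ hodd hno hstd hζ hP
    exact Or.inr (Or.inr (Or.inr (Or.inr (Or.inr (Or.inl ⟨F₀, r, P', hr, hq, hP', heq ▸ h⟩)))))
  · exact absurd he (Nat.not_even_iff_odd.mpr hno)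
  · have hc : k ^ t = Fintype.card ι := by simp [Fintype.card_congr e]
    have hko : Odd k := by
      by_contra hk'
      have : Even (k ^ t) := (Nat.not_odd_iff_even.mp hk').pow_of_ne_zero (by omega)
      exact (Nat.not_even_iff_odd.mpr hno) (hc ▸ this)
    rcases hs with hs | ⟨-, hs⟩
    swap
    · exact (not_symplectic_odd hodd hko hs).elim
    have hk3 : 3 ≤ k := by obtain ⟨a, ha⟩ := hko; omega
    exact Or.inr (Or.inr (Or.inr (Or.inr (Or.inr (Or.inr ⟨k, t, e, P, f₁, hk3, ht, hc, hne', hs, hg ▸ hf, h⟩)))))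

end Cfsg.Agent.Lib.AschbacherOrth
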