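import Cfsg.Agent.Lib.AschbacherOrth.Main
import Cfsg.Agent.Lib.Subspaces.OrthNondeg
import Cfsg.Agent.Lib.OrthStd.Models
import Cfsg.Agent.Lib.OrthOmega.Simple

/-!
No member of a geometric class contains `Ω` of a quadratic form in odd characteristic.
-/

set_option autoImplicit false
set_option linter.style.haveILetI false
set_option linter.unusedSectionVars false

namespace Cfsg.Agent.Lib.AschbacherOrth

open Cfsg.Geo Cfsg.Agent.Lib.PrimeDim.Basic Cfsg.Agent.Lib.Aschbacher
open Cfsg.Agent.Lib.Subspaces.OrthForm Cfsg.Agent.Lib.Subspaces.OmegaGL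
open Cfsg.Agent.Lib.OrthOmega
open scoped Matrix MatrixGroups Kronecker

variable {ι : Type} [Fintype ι] [DecidableEq ι] {F : Type*} [Field F] [Fintype F] {Q : (ι → F) → F}

local notation "B" => QuadraticMap.polar Q

variable (hQ : IsNondegenerateQuadraticForm Q)
include hQ

/-- `Ω` is transitive on the non-zero vectors of given norm. -/
theorem omega_map (h5 : 5 ≤ Fintype.card ι) {x y : ι → F} (hx : x ≠ 0) (hy : y ≠ 0) (h : Q x = Q y) :
    ∃ g ∈ omegaGL Q, (g : Matrix ι ι F) *ᵥ x = y := by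
  obtain ⟨k, hk, hkx⟩ := conn_of_eq (qf_nondeg hQ) (by rw [Module.finrank_fintype_fun_eq_card]; omega) hx hy
    (by simpa [qf_apply] using h)
  let φ := Cfsg.Agent.Lib.Forms.isoOrth (qf hQ) (f := Q) (fun v => (qf_apply hQ v).symm)
  have hval : ∀ v, ((φ.symm k : Cfsg.isometryGroup F Q) : GL ι F).val *ᵥ v = k.1 v := fun v => by
    rw [← Cfsg.Agent.Lib.Forms.isoOrth_apply (qf hQ) (f := Q) (fun v => (qf_apply hQ v).symm)]
    show (φ (φ.symm k)).1 v = _
    rw [φ.apply_symm_apply]
  refine ⟨(φ.symm k : Cfsg.isometryGroup F Q), (mem_omegaGL hQ h5).mpr ⟨k, hk, fun v => (hval v).symm⟩, ?_⟩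
  rw [hval, hkx]

theorem exists_singular_ne_zero (h2 : (2 : F) ≠ 0) (h5 : 5 ≤ Fintype.card ι) :
    ∃ z : ι → F, z ≠ 0 ∧ Q z = 0 := by
  haveI : Nonempty ι := Fintype.card_pos_iff.mp (by omega)
  obtain ⟨v, hv⟩ : ∃ v : ι → F, v ≠ 0 := exists_ne 0
  obtain ⟨u, hu, -, huv⟩ := exists_singular hQ h2 (![] : Fin 0 → ι → F) (z := v) (by simpa using hv) (by omega)
  refine ⟨u, ?_, hu⟩
  rintro rfl
  rw [B_comm, zero_right hQ] at huv
  exact zero_ne_one huv

/-- No proper non-zero subspace is stabilised by `Ω`. -/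
theorem not_le_subspace (h2 : (2 : F) ≠ 0) (h7 : 7 ≤ Fintype.card ι) {W : Submodule F (ι → F)} (hb : W ≠ ⊥)
    (ht : W ≠ ⊤) : ¬ omegaGL Q ≤ subspaceStabilizer W := by
  intro hle
  have hmove : ∀ x ∈ W, x ≠ 0 → ∀ y, y ≠ 0 → Q y = Q x → y ∈ W := fun x hx hx0 y hy hxy => by
    obtain ⟨g, hg, rfl⟩ := omega_map hQ (by omega) hx0 hy hxy.symm
    exact (hle hg x).mp hx
  obtain ⟨x, hx, hx0⟩ := Submodule.exists_mem_ne_zero_of_ne_bot hb
  have hb' := hQ.polar_bilinear
  -- a singular vector of `W`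
  obtain ⟨z, hz, hz0, hzQ⟩ : ∃ z ∈ W, z ≠ 0 ∧ Q z = 0 := by
    by_cases hQx : Q x = 0
    · exact ⟨x, hx, hx0, hQx⟩
    obtain ⟨z₀, hz₀⟩ : ∃ z₀ : ι → F, z₀ ∉ Submodule.span F (Set.range ![x]) := by
      by_contra! h
      have := finrank_span_range_le (F := F) ![x]
      rw [show Submodule.span F (Set.range ![x]) = ⊤ from eq_top_iff.mpr (fun v _ => h v), finrank_top,
        Module.finrank_fintype_fun_eq_card] at this
      omega
    obtain ⟨z, hzQ, hzx, hz1⟩ := exists_singular hQ h2 ![x] hz₀ (by omega)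
    have hzx' : B x z = 0 := by rw [B_comm]; exact hzx 0
    have hz0 : z ≠ 0 := by rintro rfl; rw [B_comm, zero_right hQ] at hz1; exact zero_ne_one hz1
    have h1 : Q (x + z) = Q x := by rw [Q_add (Q := Q), hzQ, hzx']; ring
    refine ⟨z, ?_, hz0, hzQ⟩
    have := W.sub_mem (hmove x hx hx0 (x + z) (fun h => hQx (by
      rw [eq_neg_of_add_eq_zero_left h, ← neg_one_smul F z, hQ.smul, hzQ, mul_zero])) h1) hx
    simpa using this
  apply ht
  rw [eq_top_iff, ← span_singular hQ h2 (by omega), Submodule.span_le]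
  intro v hv
  by_cases hv0 : v = 0
  · rw [hv0]; exact W.zero_mem
  · exact hmove z hz hz0 v hv0 ((show Q v = 0 from hv).trans hzQ.symm)

/-- `Ω` does not permute the members of an orthogonal decomposition. -/
theorem not_le_decomposition (h2 : (2 : F) ≠ 0) {t k : ℕ} {D : Fin t → Submodule F (ι → F)}
    (hD : IsNondegenerateMDecomposition B k D) (h9 : 9 ≤ Fintype.card ι ∨ k = 1 ∧ 7 ≤ Fintype.card ι) :
    ¬ omegaGL Q ≤ decompositionStabilizer D := by
  classical
  intro hle
  have hb' := hQ.polar_bilinear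
  have hd := hD.decomp
  let i : Fin t := ⟨0, by have := hd.two_le; omega⟩
  have hne : D i ≠ ⊥ := fun hb => by
    have := hd.finrank_eq i
    rw [hb, finrank_bot] at this
    exact hd.pos.ne this
  obtain ⟨x, hx, hQx⟩ : ∃ x ∈ D i, Q x ≠ 0 := by
    by_contra! hc
    obtain ⟨w, hw, hw0⟩ := Submodule.exists_mem_ne_zero_of_ne_bot hne
    obtain ⟨u, hu, huw⟩ := (hD.nondegenerate i w hw hw0).1
    exact huw (by rw [QuadraticMap.polar, hc _ ((D i).add_mem hu hw), hc u hu, hc w hw]; ring)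
  have hx0 : x ≠ 0 := by rintro rfl; exact hQx (Q_zero hQ)
  have hkn : t * k = Fintype.card ι := Cfsg.Agent.Lib.AschbacherSp.decomposition_card hd
  -- a singular vector orthogonal to `x` outside `D i`
  obtain ⟨z, hzQ, hxz, hzD⟩ : ∃ z, Q z = 0 ∧ B x z = 0 ∧ z ∉ D i := by
    obtain ⟨z₀, hz₀⟩ : ∃ z₀ : ι → F, z₀ ∉ Submodule.span F (Set.range ![x]) := by
      by_contra! h
      have := finrank_span_range_le (F := F) ![x]
      rw [show Submodule.span F (Set.range ![x]) = ⊤ from eq_top_iff.mpr (fun v _ => h v), finrank_top,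
        Module.finrank_fintype_fun_eq_card] at this
      omega
    obtain ⟨z, hzQ, hzx, hz1⟩ := exists_singular hQ h2 ![x] hz₀ (by omega)
    have hzx' : B x z = 0 := by rw [B_comm]; exact hzx 0
    have hz0 : z ≠ 0 := by rintro rfl; rw [B_comm, zero_right hQ] at hz1; exact zero_ne_one hz1
    rcases h9 with h9 | ⟨hk, -⟩
    swap
    · refine ⟨z, hzQ, hzx', fun hz => hQx ?_⟩
      have hfr := hd.finrank_eq i
      rw [hk] at hfr
      obtain ⟨c, hc⟩ := exists_smul_eq_of_finrank_eq_one hfr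
        (x := (⟨z, hz⟩ : D i)) (fun h => hz0 (congrArg Subtype.val h)) ⟨x, hx⟩
      rw [show x = c • z from (congrArg Subtype.val hc).symm, hQ.smul, hzQ, mul_zero]
    by_contra! hall
    set U := Cfsg.Agent.Lib.Subspaces.OrthNondeg.perpQ hQ (Submodule.span F {x}) with hU
    have hxW : IsNondegenerateOn B (Submodule.span F {x}) := by
      intro w hw hw0
      obtain ⟨c, rfl⟩ := Submodule.mem_span_singleton.mp hw
      have hc : c ≠ 0 := fun h => hw0 (by rw [h, zero_smul])
      refine ⟨⟨x, Submodule.mem_span_singleton_self x, ?_⟩, ⟨x, Submodule.mem_span_singleton_self x, ?_⟩⟩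
      · rw [hb'.smul_right, B_self hQ]; exact mul_ne_zero hc (mul_ne_zero h2 hQx)
      · rw [hb'.smul_left, B_self hQ]; exact mul_ne_zero hc (mul_ne_zero h2 hQx)
    have hUn := Cfsg.Agent.Lib.Subspaces.OrthNondeg.perpQ_nondeg (hQ := hQ) hxW
    have hUd := Cfsg.Agent.Lib.Subspaces.OrthNondeg.finrank_add_perpQ (hQ := hQ) hxW
    rw [finrank_span_singleton hx0] at hUd
    have hle' : U ≤ D i := fun u hu => by
      refine Submodule.span_le.mpr ?_
        (Cfsg.Agent.Lib.Subspaces.OrthNondeg.span_singular_in hQ hUn (by omega) u hu)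
      rintro v ⟨hv, hvQ⟩
      refine hall v hvQ ?_
      first
        | exact hv x (Submodule.mem_span_singleton_self x)
        | exact (B_comm x v).trans (hv x (Submodule.mem_span_singleton_self x))
    have h1 := Submodule.finrank_mono hle'
    rw [hd.finrank_eq] at h1
    have hUd' : 1 + Module.finrank F U = Fintype.card ι := hUd
    have h2t : 2 * k ≤ Fintype.card ι := by rw [← hkn]; exact Nat.mul_le_mul_right k hd.two_le
    omega
  have hzD' : -z ∉ D i := fun h => hzD (by simpa using (D i).neg_mem h)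
  have key : ∀ s : ι → F, Q s = 0 → B x s = 0 → s ∉ D i → ∃ j, j ≠ i ∧ x + s ∈ D j := by
    intro s hs hxs hsD
    have h1 : Q (x + s) = Q x := by rw [Q_add (Q := Q), hs, hxs]; ring
    have hne0 : x + s ≠ 0 := fun h => hQx (by rw [← h1, h, Q_zero hQ])
    obtain ⟨g, hg, hgx⟩ := omega_map hQ (by omega) hx0 hne0 h1.symm
    obtain ⟨σ, hσ⟩ := hle hg
    refine ⟨σ i, fun hj => hsD ?_, ?_⟩
    · have hm : x + s ∈ D (σ i) := by rw [← hσ, ← hgx]; exact Submodule.mem_map_of_mem hx
      rw [hj] at hm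
      simpa using (D i).sub_mem hm hx
    · rw [← hσ, ← hgx]; exact Submodule.mem_map_of_mem hx
  obtain ⟨j, hji, hj⟩ := key z hzQ hxz hzD
  obtain ⟨l, hli, hl⟩ := key (-z) (by rw [← neg_one_smul F z, hQ.smul, hzQ, mul_zero])
    (by rw [← neg_one_smul F z, hb'.smul_right, hxz, mul_zero]) hzD'
  have hsum : (2 : F) • x ∈ ⨆ a, ⨆ _ : a ≠ i, D a := by
    rw [show (2 : F) • x = (x + z) + (x + -z) by module]
    exact Submodule.add_mem _ (Submodule.mem_iSup_of_mem j (Submodule.mem_iSup_of_mem hji hj))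
      (Submodule.mem_iSup_of_mem l (Submodule.mem_iSup_of_mem hli hl))
  have := Submodule.disjoint_def.mp (hd.indep i) _ ((D i).smul_mem 2 hx) hsum
  exact hx0 ((smul_eq_zero.mp this).resolve_left h2)

/-- A matrix commuting with every Siegel transformation is a scalar. -/
theorem scalar_of_comm (h2 : (2 : F) ≠ 0) (h7 : 7 ≤ Fintype.card ι) {k : Matrix ι ι F}
    (hk : ∀ g ∈ omegaGL Q, k * (g : Matrix ι ι F) = (g : Matrix ι ι F) * k) : ∃ c : F, k = c • 1 := by
  classical
  have hb' := hQ.polar_bilinear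
  have h0l : ∀ y : ι → F, B 0 y = 0 := fun y => by rw [B_comm]; exact zero_right hQ y
  -- singular vectors are eigenvectors
  have heig : ∀ u, Q u = 0 → ∃ a : F, k *ᵥ u = a • u := by
    intro u hu
    by_cases hu0 : u = 0
    · exact ⟨0, by simp [hu0]⟩
    have step : ∀ w, B w u = 0 → w ∉ Submodule.span F {u} → k *ᵥ u ∈ Submodule.span F {u, w} := by
      intro w hwu hw
      have hwu' : w ∉ Submodule.span F (Set.range ![u]) := by
        simpa [Matrix.range_cons, Matrix.range_empty] using hw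
      obtain ⟨v, hv, hvw⟩ := dual hQ hwu'
      have hvu : B v u = 0 := hv u (Submodule.subset_span ⟨0, rfl⟩)
      have h := congrArg (fun M => M *ᵥ v) (hk _ (sieg_mem_omega hQ (by omega) hu hwu))
      simp only [← Matrix.mulVec_mulVec, sieg_mulVec hQ hu hwu, hvu, hvw, zero_smul, add_zero, mul_zero, sub_zero,
        Matrix.mulVec_add, Matrix.mulVec_smul] at h
      have h' : k *ᵥ u = -(B (k *ᵥ v) u • w + (-B (k *ᵥ v) w - Q w * B (k *ᵥ v) u) • u) := by
        linear_combination (norm := module) -h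
      rw [h']
      exact neg_mem (add_mem (Submodule.smul_mem _ _ (Submodule.subset_span (by simp)))
        (Submodule.smul_mem _ _ (Submodule.subset_span (by simp))))
    obtain ⟨w, hw, -⟩ := exists_anisotropic hQ ![u] (by omega)
    obtain ⟨w₁, hw₁, hw₁n⟩ := exists_anisotropic hQ ![u] (by omega)
    obtain ⟨w₂, hw₂, hw₂n⟩ := exists_anisotropic hQ ![u, w₁] (by omega)
    have hperp : ∀ w : ι → F, Q w ≠ 0 → B w u = 0 → w ∉ Submodule.span F {u} := fun w hwn _ hmem => by
      obtain ⟨c, rfl⟩ := Submodule.mem_span_singleton.mp hmem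
      exact hwn (by rw [hQ.smul, hu, mul_zero])
    obtain ⟨a, b, hab⟩ := Submodule.mem_span_pair.mp (step w₁ (hw₁ 0) (hperp _ hw₁n (hw₁ 0)))
    obtain ⟨a', b', hab'⟩ := Submodule.mem_span_pair.mp (step w₂ (hw₂ 0) (hperp _ hw₂n (hw₂ 0)))
    have hw21 : B w₂ w₁ = 0 := hw₂ 1
    have h1 := congrArg (fun v => B v w₁) (hab.trans hab'.symm)
    have hu1 : B u w₁ = 0 := by rw [B_comm]; exact hw₁ 0
    simp only [hb'.add_left, hb'.smul_left, hu1, hw21, mul_zero, zero_add, B_self hQ] at h1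
    have hb0 : b = 0 := (mul_eq_zero.mp h1).resolve_right (mul_ne_zero h2 hw₁n)
    exact ⟨a, by rw [← hab, hb0, zero_smul, add_zero]⟩
  choose μ hμ using heig
  obtain ⟨z₀, hz₀, hz₀Q⟩ := exists_singular_ne_zero hQ h2 (by omega)
  have hsame : ∀ u (hu : Q u = 0), u ≠ 0 → μ u hu = μ z₀ hz₀Q := by
    -- orthogonal independent singular vectors share the eigenvalue
    have horth : ∀ u (hu : Q u = 0) v (hv : Q v = 0), u ≠ 0 → v ∉ Submodule.span F {u} → B u v = 0 →
        μ u hu = μ v hv := by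
      intro u hu v hv hu0 hvu huv
      have hs : Q (u + v) = 0 := by rw [Q_add (Q := Q), hu, hv, huv]; ring
      have h := hμ (u + v) hs
      rw [Matrix.mulVec_add, hμ u hu, hμ v hv] at h
      have h' : (μ v hv - μ (u + v) hs) • v = (μ (u + v) hs - μ u hu) • u := by
        linear_combination (norm := module) h
      have e1 : μ v hv - μ (u + v) hs = 0 := by
        by_contra hne
        apply hvu
        rw [Submodule.mem_span_singleton]
        exact ⟨(μ v hv - μ (u + v) hs)⁻¹ * (μ (u + v) hs - μ u hu),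
          by rw [← smul_smul, ← h', smul_smul, inv_mul_cancel₀ hne, one_smul]⟩
      rw [e1, zero_smul, eq_comm, smul_eq_zero, or_iff_left hu0, sub_eq_zero] at h'
      rw [sub_eq_zero] at e1
      rw [← h', e1]
    intro u hu hu0
    by_cases hus : u ∈ Submodule.span F {z₀}
    · obtain ⟨c, rfl⟩ := Submodule.mem_span_singleton.mp hus
      have h := hμ (c • z₀) hu
      rw [Matrix.mulVec_smul, hμ z₀ hz₀Q, smul_comm] at h
      exact (smul_left_injective F hu0 h).symm
    by_cases huz : B z₀ u = 0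
    · exact (horth z₀ hz₀Q u hu hz₀ hus huz).symm
    let U := Cfsg.Agent.Lib.Subspaces.OrthNondeg.perpQ hQ (Submodule.span F {u, z₀})
    have hUd : 3 ≤ Module.finrank F U := by
      show 3 ≤ Module.finrank F (Cfsg.Agent.Lib.Subspaces.OrthNondeg.perpQ hQ (Submodule.span F {u, z₀}))
      have h1 := Cfsg.Agent.Lib.Subspaces.OrthNondeg.finrank_perpQ_ge (hQ := hQ) (Submodule.span F {u, z₀})
      have h2 := Cfsg.Agent.Lib.Subspaces.OrthNondeg.finrank_pair_le u z₀
      omega
    obtain ⟨w, hw, hw0, hwQ⟩ := Cfsg.Agent.Lib.Subspaces.OrthNondeg.exists_singular_in hQ hUd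
    have hwu : B w u = 0 := hw u (Submodule.subset_span (by simp))
    have hwz : B w z₀ = 0 := hw z₀ (Submodule.subset_span (by simp))
    have huw' : u ∉ Submodule.span F {w} := fun hm => by
      obtain ⟨c, rfl⟩ := Submodule.mem_span_singleton.mp hm
      exact huz (by rw [hb'.smul_right, B_comm, hwz, mul_zero])
    have hzw' : z₀ ∉ Submodule.span F {w} := fun hm => by
      obtain ⟨c, rfl⟩ := Submodule.mem_span_singleton.mp hm
      exact huz (by rw [hb'.smul_left, hwu, mul_zero])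
    exact (horth w hwQ u hu hw0 huw' hwu).symm.trans (horth w hwQ z₀ hz₀Q hw0 hzw' hwz)
  refine ⟨μ z₀ hz₀Q, ?_⟩
  refine Matrix.ext_of_mulVec_single fun j => ?_
  have hall : ∀ v ∈ Submodule.span F {v : ι → F | Q v = 0}, k *ᵥ v = μ z₀ hz₀Q • v := by
    intro v hv
    induction hv using Submodule.span_induction with
    | mem v hv =>
      by_cases hv0 : v = 0
      · simp [hv0]
      · rw [hμ v hv, hsame v hv hv0]
    | zero => simp
    | add a b _ _ ha hb => rw [Matrix.mulVec_add, ha, hb, smul_add]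
    | smul c a _ ha => rw [Matrix.mulVec_smul, ha, smul_comm]
  rw [hall _ (by rw [span_singular hQ h2 (by omega)]; exact Submodule.mem_top), Matrix.smul_mulVec,
    Matrix.one_mulVec]

/-- `Ω` does not normalise a proper field subalgebra. -/
theorem not_le_subalgebraNormalizer (h2 : (2 : F) ≠ 0) (h7 : 7 ≤ Fintype.card ι) {r : ℕ}
    {K : Subalgebra F (Matrix ι ι F)} (hK : IsFieldSubalgebra r K) (hr : 2 ≤ r) :
    ¬ omegaGL Q ≤ subalgebraNormalizer K := by
  intro hle
  haveI : Nonempty ι := Fintype.card_pos_iff.mp (by omega)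
  have hb' := hQ.polar_bilinear
  have hcomm : ∀ k ∈ K, ∀ g ∈ omegaGL Q, k * (g : Matrix ι ι F) = (g : Matrix ι ι F) * k := by
    intro k hk
    let M : Subgroup (GL ι F) :=
      { carrier := {g | k * (g : Matrix ι ι F) = (g : Matrix ι ι F) * k}
        one_mem' := by simp
        mul_mem' := fun {a b} ha hb => by
          simp only [Set.mem_setOf_eq, Units.val_mul] at *
          rw [← mul_assoc, ha, mul_assoc, hb, mul_assoc]
        inv_mem' := fun {a} ha => by
          simp only [Set.mem_setOf_eq] at *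
          calc k * ((a⁻¹ : GL ι F) : Matrix ι ι F)
              = ((a⁻¹ : GL ι F) : Matrix ι ι F) * ((a : Matrix ι ι F) * k) * ((a⁻¹ : GL ι F) : Matrix ι ι F) := by
                simp [← mul_assoc]
            _ = _ := by rw [← ha]; simp [mul_assoc] }
    refine fun g hg => omega_le hQ (by omega) (M := M) (fun u w hu hwu => ?_) hg
    set t := sieg Q u w with ht
    set k' := (t : Matrix ι ι F) * k * ((t⁻¹ : GL ι F) : Matrix ι ι F) with hk'
    have hk'K : k' ∈ K := (hle (sieg_mem_omega hQ (by omega) hu hwu) k).mp hk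
    let L : (ι → F) →ₗ[F] (F × F) × F × F :=
      { toFun := fun v => ((B v u, B v w), B (k *ᵥ v) u, B (k *ᵥ v) w)
        map_add' := fun a b => by simp [hb'.add_left, Matrix.mulVec_add]
        map_smul' := fun c a => by simp [hb'.smul_left, Matrix.mulVec_smul] }
    obtain ⟨v, hv, hv0⟩ := Submodule.exists_mem_ne_zero_of_ne_bot (p := LinearMap.ker L) (fun h => by
      have h1 := LinearMap.finrank_range_add_finrank_ker L
      have h2 := Submodule.finrank_le (LinearMap.range L)
      rw [h, finrank_bot, Module.finrank_pi] at h1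
      simp only [Module.finrank_prod, Module.finrank_self] at h2
      omega)
    rw [LinearMap.mem_ker] at hv
    simp only [L, LinearMap.coe_mk, AddHom.coe_mk, Prod.mk_eq_zero] at hv
    obtain ⟨⟨hv1, hv2⟩, hv3, hv4⟩ := hv
    have htv : (t : Matrix ι ι F) *ᵥ v = v := by rw [ht, sieg_mulVec hQ hu hwu, hv1, hv2]; simp
    have hk'v : k' *ᵥ v = k *ᵥ v := by
      have h1 : ((t⁻¹ : GL ι F) : Matrix ι ι F) *ᵥ v = v := by
        conv_lhs => rw [← htv, inv_mulVec_cancel]
      rw [hk', ← Matrix.mulVec_mulVec, h1, ← Matrix.mulVec_mulVec, ht, sieg_mulVec hQ hu hwu, hv3, hv4]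
      simp
    have hkk : k' = k := by
      by_contra hne
      obtain ⟨y, hy, hyk⟩ := hK.inv _ (sub_mem hk'K hk) (sub_ne_zero.mpr hne)
      rw [hK.comm _ (sub_mem hk'K hk) y hy] at hyk
      apply hv0
      rw [← Matrix.one_mulVec v, ← hyk, ← Matrix.mulVec_mulVec, Matrix.sub_mulVec, hk'v, sub_self, Matrix.mulVec_zero]
    show k * (t : Matrix ι ι F) = (t : Matrix ι ι F) * k
    have := congrArg (fun M => M * (t : Matrix ι ι F)) hkk
    simpa [hk', mul_assoc] using this.symm
  have hbot : K = ⊥ := le_bot_iff.mp fun k hk => by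
    obtain ⟨c, rfl⟩ := scalar_of_comm hQ h2 h7 (hcomm k hk)
    exact Algebra.mem_bot.mpr ⟨c, by rw [Algebra.algebraMap_eq_smul_one]⟩
  have := hK.finrank_eq
  rw [hbot, Subalgebra.finrank_bot] at this
  omega

/-- `Ω` does not lie in a subfield subgroup. -/
theorem not_le_subfieldSubgroup (h2 : (2 : F) ≠ 0) (h7 : 7 ≤ Fintype.card ι) {F₀ : Subfield F} (hne : F₀ ≠ ⊤)
    (P : GL ι F) : ¬ omegaGL Q ≤ subfieldSubgroup F₀ P := by
  intro hle
  classical
  have hb' := hQ.polar_bilinear
  obtain ⟨u, hu0, hu⟩ := exists_singular_ne_zero hQ h2 (by omega)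
  -- a second singular vector orthogonal to the first
  obtain ⟨e, he, -, heu⟩ := exists_singular hQ h2 (![] : Fin 0 → ι → F) (z := u) (by simpa using hu0) (by omega)
  set U := Cfsg.Agent.Lib.Subspaces.OrthNondeg.perpQ hQ (Submodule.span F {u, e}) with hU
  have hUd : 3 ≤ Module.finrank F U := by
    have h1 := Cfsg.Agent.Lib.Subspaces.OrthNondeg.finrank_perpQ_ge (hQ := hQ) (Submodule.span F {u, e})
    have h2' := Cfsg.Agent.Lib.Subspaces.OrthNondeg.finrank_pair_le u e
    have : 3 ≤ Module.finrank F (Cfsg.Agent.Lib.Subspaces.OrthNondeg.perpQ hQ (Submodule.span F {u, e})) := by omega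
    exact this
  obtain ⟨w, hw, hw0, hwQ⟩ := Cfsg.Agent.Lib.Subspaces.OrthNondeg.exists_singular_in hQ hUd
  have hwu : B w u = 0 := hw u (Submodule.subset_span (by simp))
  have hwe : B w e = 0 := hw e (Submodule.subset_span (by simp))
  have huu : B u u = 0 := by rw [B_self hQ, hu, mul_zero]
  have hww : B w w = 0 := by rw [B_self hQ, hwQ, mul_zero]
  have huw : B u w = 0 := by rw [B_comm]; exact hwu
  have hsieg : ∀ (c : F) v, (sieg Q u (c • w) : Matrix ι ι F) *ᵥ v = v + c • (B v u • w - B v w • u) := fun c v => by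
    rw [sieg_mulVec hQ hu (by rw [hb'.smul_left, hwu, mul_zero]), hb'.smul_right, hQ.smul, hwQ]
    module
  have hmem : ∀ c : F, sieg Q u (c • w) ∈ omegaGL Q := fun c =>
    sieg_mem_omega hQ (by omega) hu (by rw [hb'.smul_left, hwu, mul_zero])
  set A : Matrix ι ι F := (sieg Q u w : Matrix ι ι F) - 1 with hA
  have hAv : ∀ v, A *ᵥ v = B v u • w - B v w • u := fun v => by
    have := hsieg 1 v
    rw [one_smul, one_smul] at this
    rw [hA, Matrix.sub_mulVec, this, Matrix.one_mulVec, add_sub_cancel_left]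
  have hAc : ∀ c : F, (sieg Q u (c • w) : Matrix ι ι F) = 1 + c • A := fun c =>
    Matrix.ext_of_mulVec_single fun j => by
      rw [hsieg, Matrix.add_mulVec, Matrix.one_mulVec, Matrix.smul_mulVec, hAv]
  have hA2 : A * A = 0 := Matrix.ext_of_mulVec_single fun j => by
    rw [← Matrix.mulVec_mulVec, hAv, Matrix.zero_mulVec]
    simp only [hAv, sub_eq_add_neg, ← neg_smul, hb'.add_left, hb'.smul_left, huu, hww, huw, hwu, mul_zero, add_zero,
      neg_zero, zero_smul]
  have hA0 : A ≠ 0 := by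
    intro h
    have := hAv e
    rw [h, Matrix.zero_mulVec, heu, B_comm e w, hwe, zero_smul, sub_zero, one_smul] at this
    exact hw0 this.symm
  set N := ((P⁻¹ : GL ι F) : Matrix ι ι F) * A * (P : Matrix ι ι F) with hN
  have hN2 : N * N = 0 := by
    calc N * N = ((P⁻¹ : GL ι F) : Matrix ι ι F) * (A * A) * (P : Matrix ι ι F) := by simp [hN, mul_assoc]
      _ = 0 := by rw [hA2]; simp
  have hN0 : N ≠ 0 := fun h => hA0 (by
    have := congrArg (fun M => (P : Matrix ι ι F) * M * ((P⁻¹ : GL ι F) : Matrix ι ι F)) h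
    simpa [hN, mul_assoc] using this)
  obtain ⟨i, j, hij, hb0⟩ : ∃ i j, i ≠ j ∧ N i j ≠ 0 := by
    by_contra! h
    refine hN0 (Matrix.ext fun i j => ?_)
    rcases eq_or_ne i j with rfl | hij
    · have h1 := congrFun (congrFun hN2 i) i
      rw [Matrix.mul_apply, Finset.sum_eq_single i (fun x _ hx => by rw [h i x (Ne.symm hx), zero_mul]) (by simp)] at h1
      exact mul_self_eq_zero.mp h1
    · exact h i j hij
  have hrat : ∀ c : F, c ≠ 0 → (1 + c * N i i) * (c * N i j)⁻¹ ∈ F₀ := by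
    intro c hc
    obtain ⟨M, hM, hMt⟩ := hle (hmem c)
    obtain ⟨_, ⟨g, rfl⟩, z, hz, rfl⟩ := Subgroup.mem_sup_of_normal_right.mp (by exact hM) |> fun h => h
    obtain ⟨s, hs⟩ := (mem_scalars_iff z).mp hz
    have hval : (s : F) • ((Matrix.GeneralLinearGroup.map (F₀.subtype : F₀ →+* F) g : GL ι F) : Matrix ι ι F) =
        1 + c • N := by
      have h1 := congrArg (fun x : GL ι F => ((P⁻¹ * x * P : GL ι F) : Matrix ι ι F)) hMt
      simp only [MulEquiv.coe_toMonoidHom, MulAut.conj_apply] at h1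
      rw [show P⁻¹ * (P * ((Matrix.GeneralLinearGroup.map (F₀.subtype : F₀ →+* F) g) * z) * P⁻¹) * P
        = (Matrix.GeneralLinearGroup.map (F₀.subtype : F₀ →+* F) g) * z by group] at h1
      rw [Units.val_mul, hs, Matrix.mul_smul, mul_one] at h1
      rw [h1, Units.val_mul, Units.val_mul, hAc, mul_add, add_mul, mul_one, Units.inv_mul, Matrix.mul_smul,
        Matrix.smul_mul, hN]
    have hii := congrFun (congrFun hval i) i
    have hij' := congrFun (congrFun hval i) j
    simp only [Matrix.smul_apply, Matrix.add_apply, Matrix.one_apply_eq, Matrix.one_apply_ne hij, zero_add,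
      smul_eq_mul] at hii hij'
    rw [← hii, ← hij', mul_inv, mul_mul_mul_comm, mul_inv_cancel₀ s.ne_zero, one_mul]
    exact mul_mem (g.val i i).2 (inv_mem (g.val i j).2)
  have hdiff : ∀ x y : F, x ≠ 0 → y ≠ 0 → (x - y) * (N i j)⁻¹ ∈ F₀ := by
    intro x y hx hy
    have h := sub_mem (hrat x⁻¹ (inv_ne_zero hx)) (hrat y⁻¹ (inv_ne_zero hy))
    have e : (1 + x⁻¹ * N i i) * (x⁻¹ * N i j)⁻¹ - (1 + y⁻¹ * N i i) * (y⁻¹ * N i j)⁻¹ = (x - y) * (N i j)⁻¹ := by
      field_simp; ring
    rwa [e] at h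
  obtain ⟨x, hx⟩ : ∃ x : F, x ∉ F₀ := by
    by_contra! h
    exact hne (eq_top_iff.mpr fun v _ => h v)
  have hx0 : x ≠ 0 := fun h => hx (h ▸ zero_mem F₀)
  have hx1 : x ≠ 1 := fun h => hx (h ▸ one_mem F₀)
  have hxm : x - 1 ≠ 0 := sub_ne_zero.mpr hx1
  -- two differences whose ratio is `x`
  have h1 : (x - 1) * (N i j)⁻¹ ∈ F₀ := hdiff x 1 hx0 one_ne_zero
  have h2' : (x * x - x) * (N i j)⁻¹ ∈ F₀ := hdiff (x * x) x (mul_ne_zero hx0 hx0) hx0
  apply hx
  have e : x = ((x * x - x) * (N i j)⁻¹) / ((x - 1) * (N i j)⁻¹) := by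
    field_simp
  rw [e]
  exact div_mem h2' h1

end Cfsg.Agent.Lib.AschbacherOrth
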