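import Cfsg.Agent.Lib.AschbacherOrth.OddStd
import Cfsg.Agent.Lib.AschbacherOrth.Proper
import Cfsg.Agent.Lib.AschbacherSp.Cases

/-!
Maximal subgroups of `Ω` in odd dimension: reductions to the members listed in dimensions seven, nine and eleven.
-/

set_option autoImplicit false
set_option linter.style.haveILetI false
set_option linter.unusedSectionVars false

namespace Cfsg.Agent.Lib.AschbacherOrth

open Cfsg.Geo Cfsg.Agent.Lib.PrimeDim.Basic Cfsg.Agent.Lib.Aschbacher
open Cfsg.Agent.Lib.AschbacherSp (Isom mem_isom gramForm_apply_isom gramForm_single gramForm_gramMatrix eq_inf perp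
  mem_perp three_facts two_ne_zero' subfield_ne_top)
open scoped Matrix MatrixGroups Kronecker

variable {ι : Type} [Fintype ι] [DecidableEq ι] {F : Type*} [Field F] [Fintype F] {Q : (ι → F) → F}

local notation "B" => QuadraticMap.polar Q
local notation "G₀" => gramMatrix (QuadraticMap.polar Q)

section cases

variable (hQ : IsNondegenerateQuadraticForm Q) (hodd : Odd (Fintype.card F))
include hQ

theorem inf_perp_of_nondeg {W : Submodule F (ι → F)} (h : IsNondegenerateOn B W) : W ⊓ perp G₀ W = ⊥ := by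
  rw [eq_bot_iff]
  rintro w ⟨hw, hw'⟩
  by_contra h0
  obtain ⟨x, hx, hne⟩ := (h w hw h0).1
  exact hne (gram_eq hQ ▸ mem_perp.mp hw' x hx)

theorem stab_inf_le_perp (hodd : Odd (Fintype.card F)) (W : Submodule F (ι → F)) :
    subspaceStabilizer W ⊓ Cfsg.isometryGroup F Q ≤ subspaceStabilizer (perp G₀ W) := by
  have hle : subspaceStabilizer W ⊓ Cfsg.isometryGroup F Q ≤ Isom G₀ := isom_eq hQ hodd ▸ inf_le_right
  exact invariant_le_stab (invariant_perp (sym_gram hQ) hle fun g hg w hw => (hg.1 w).mp hw)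

include hodd

/-- Over three elements the stabiliser of a hyperbolic plane fixes an anisotropic line. -/
theorem plane_line (hq : Fintype.card F = 3) {W : Submodule F (ι → F)} (hd : Module.finrank F W = 2)
    (hW : IsNondegenerateOn B W) (hp : IsPlusTypeOn Q W) :
    ∃ v : ι → F, Q v ≠ 0 ∧
      subspaceStabilizer W ⊓ Cfsg.isometryGroup F Q ≤ subspaceStabilizer (Submodule.span F {v}) := by
  obtain ⟨U, hUW, hU, hUd⟩ := hp
  have hb := hQ.polar_bilinear
  obtain ⟨e, he, he0⟩ := Submodule.exists_mem_ne_zero_of_ne_bot (p := U) fun h => by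
    rw [h, finrank_bot, hd] at hUd; omega
  have heQ := hU e he
  obtain ⟨f₀, hf₀, hne⟩ := (hW e (hUW he) he0).2
  obtain ⟨f₁, hf₁⟩ : ∃ z, z = (B e f₀)⁻¹ • f₀ := ⟨_, rfl⟩
  obtain ⟨f, hf⟩ : ∃ z, z = f₁ - Q f₁ • e := ⟨_, rfl⟩
  have hef1 : B e f₁ = 1 := by rw [hf₁, hb.smul_right, inv_mul_cancel₀ hne]
  have hee : B e e = 0 := by rw [polar_self hQ, heQ, mul_zero]
  have hfW : f ∈ W := hf ▸ W.sub_mem (hf₁ ▸ W.smul_mem _ hf₀) (W.smul_mem _ (hUW he))
  have hef : B e f = 1 := by
    rw [hf, sub_eq_add_neg, ← neg_smul, hb.add_right, hb.smul_right, hef1, hee, mul_zero, add_zero]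
  have hfQ : Q f = 0 := by
    rw [hf, sub_eq_add_neg, ← neg_smul, Cfsg.Agent.Lib.Subspaces.OrthForm.Q_add (Q := Q), hQ.smul, heQ,
      hb.smul_right, QuadraticMap.polar_comm Q f₁ e, hef1]
    ring
  have hQab : ∀ a b : F, Q (a • e + b • f) = a * b := fun a b => by
    rw [Cfsg.Agent.Lib.Subspaces.OrthForm.Q_add (Q := Q), hQ.smul, hQ.smul, heQ, hfQ, hb.smul_left, hb.smul_right,
      hef]
    ring
  have hli : LinearIndependent F ![e, f] := by
    rw [LinearIndependent.pair_iff]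
    intro a b hab
    have h1 := congrArg (B e) hab
    rw [hb.add_right, hb.smul_right, hb.smul_right, hee, hef] at h1
    have h2 : B e 0 = 0 := Cfsg.Agent.Lib.Subspaces.OrthForm.zero_right hQ e
    have hb0 : b = 0 := by linear_combination h1 + h2
    refine ⟨?_, hb0⟩
    rw [hb0, zero_smul, add_zero] at hab
    exact (smul_eq_zero.mp hab).resolve_right he0
  have hspan : Submodule.span F (Set.range ![e, f]) = W := by
    refine Submodule.eq_of_le_of_finrank_le (Submodule.span_le.mpr ?_) ?_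
    · rintro _ ⟨j, rfl⟩
      fin_cases j
      · exact hUW he
      · exact hfW
    · rw [hd, finrank_span_eq_card hli, Fintype.card_fin]
  have hone : Q (e + f) = 1 := by simpa using hQab 1 1
  refine ⟨e + f, by rw [hone]; exact one_ne_zero, invariant_le_stab fun g hg w hw => ?_⟩
  obtain ⟨c, rfl⟩ := Submodule.mem_span_singleton.mp hw
  have hgW : (g : Matrix ι ι F) *ᵥ (e + f) ∈ W := (hg.1 _).mp (W.add_mem (hUW he) hfW)
  have hgQ : Q ((g : Matrix ι ι F) *ᵥ (e + f)) = 1 := (hg.2 (e + f) 0).trans hone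
  rw [← hspan, Submodule.mem_span_range_iff_exists_fun] at hgW
  obtain ⟨x, hx⟩ := hgW
  simp only [Fin.sum_univ_two, Matrix.cons_val_zero, Matrix.cons_val_one] at hx
  rw [← hx, hQab] at hgQ
  have hab : x 1 = x 0 := by
    rcases (three_facts hq).2 (x 0) with h | h | h <;> rw [h] at hgQ ⊢
    · rw [zero_mul] at hgQ; exact absurd hgQ zero_ne_one
    · linear_combination hgQ
    · linear_combination -hgQ
  rw [Matrix.mulVec_smul, ← hx, hab, ← smul_add]
  exact Submodule.smul_mem _ _ (Submodule.smul_mem _ _ (Submodule.mem_span_singleton_self _))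

/-- The subspace case: an even-dimensional non-degenerate subspace, not a hyperbolic plane over three elements. -/
theorem even_subspace (hno : Odd (Fintype.card ι)) (h5 : 5 ≤ Fintype.card ι) {W : Submodule F (ι → F)} (h0 : W ≠ ⊥)
    (h1 : W ≠ ⊤) (hW : IsNondegenerateOn B W) :
    ∃ W' : Submodule F (ι → F), W' ≠ ⊥ ∧ W' ≠ ⊤ ∧ Even (Module.finrank F W') ∧ IsNondegenerateOn B W' ∧
      ¬ (Fintype.card F = 3 ∧ Module.finrank F W' = 2 ∧ IsPlusTypeOn Q W') ∧
      subspaceStabilizer W ⊓ Cfsg.isometryGroup F Q ≤ subspaceStabilizer W' := by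
  have hG := sym_gram hQ
  have hperp : ∀ U : Submodule F (ι → F), U ≠ ⊥ → U ≠ ⊤ → IsNondegenerateOn B U →
      perp G₀ U ≠ ⊥ ∧ perp G₀ U ≠ ⊤ ∧ IsNondegenerateOn B (perp G₀ U) ∧
        Module.finrank F (perp G₀ U) + Module.finrank F U = Fintype.card ι := by
    intro U hU0 hU1 hU
    have hsum := finrank_perp hG U
    have hlt : Module.finrank F U < Fintype.card ι := by
      simpa [Module.finrank_pi] using Submodule.finrank_lt hU1
    have hpos : 0 < Module.finrank F U := Nat.pos_of_ne_zero fun h => hU0 (Submodule.finrank_eq_zero.mp h)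
    refine ⟨fun h => ?_, fun h => ?_, ?_, hsum⟩
    · rw [h, finrank_bot] at hsum; omega
    · rw [h, finrank_top, Module.finrank_pi] at hsum; omega
    · have h' := nondegOn_of_inf hG (W := perp G₀ U)
        (by rw [perp_perp hG, inf_comm, inf_perp_of_nondeg hQ hU])
      rwa [gram_eq hQ] at h'
  obtain ⟨W₁, h10, h11, he, hn1, hle1⟩ : ∃ W₁ : Submodule F (ι → F), W₁ ≠ ⊥ ∧ W₁ ≠ ⊤ ∧
      Even (Module.finrank F W₁) ∧ IsNondegenerateOn B W₁ ∧
      subspaceStabilizer W ⊓ Cfsg.isometryGroup F Q ≤ subspaceStabilizer W₁ := by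
    by_cases he : Even (Module.finrank F W)
    · exact ⟨W, h0, h1, he, hW, inf_le_left⟩
    obtain ⟨ha, hb, hc, hd⟩ := hperp W h0 h1 hW
    refine ⟨_, ha, hb, ?_, hc, stab_inf_le_perp hQ hodd W⟩
    by_contra he'
    exact Nat.not_even_iff_odd.mpr hno
      (hd ▸ Odd.add_odd (Nat.not_even_iff_odd.mp he') (Nat.not_even_iff_odd.mp he))
  by_cases hx : Fintype.card F = 3 ∧ Module.finrank F W₁ = 2 ∧ IsPlusTypeOn Q W₁
  swap
  · exact ⟨W₁, h10, h11, he, hn1, hx, hle1⟩
  obtain ⟨hq, hd, hp⟩ := hx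
  obtain ⟨v, hv, hle⟩ := plane_line hQ hodd hq hd hn1 hp
  have hv0 : v ≠ 0 := by rintro rfl; exact hv (Cfsg.Agent.Lib.Subspaces.OrthForm.Q_zero hQ)
  have hvfr : Module.finrank F (Submodule.span F {v}) = 1 := finrank_span_singleton hv0
  have hvn : IsNondegenerateOn B (Submodule.span F {v}) := by
    intro w hw hw0
    obtain ⟨a, rfl⟩ := Submodule.mem_span_singleton.mp hw
    have ha : a ≠ 0 := fun h => hw0 (by rw [h, zero_smul])
    have hne : B v v ≠ 0 := by
      rw [polar_self hQ]; exact mul_ne_zero (two_ne_zero' hodd) hv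
    refine ⟨⟨v, Submodule.mem_span_singleton_self v, ?_⟩, ⟨v, Submodule.mem_span_singleton_self v, ?_⟩⟩
    · rw [hQ.polar_bilinear.smul_right]; exact mul_ne_zero ha hne
    · rw [hQ.polar_bilinear.smul_left]; exact mul_ne_zero ha hne
  obtain ⟨ha, hb, hc, hd'⟩ := hperp _ (by simpa using hv0) (fun h => by
    rw [h, finrank_top, Module.finrank_pi] at hvfr; omega) hvn
  rw [hvfr] at hd'
  refine ⟨_, ha, hb, ?_, hc, fun h => by omega,
    le_trans (le_inf (le_trans (le_inf hle1 inf_le_right) hle) inf_le_right) (stab_inf_le_perp hQ hodd _)⟩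
  obtain ⟨j, hj⟩ := hno
  exact ⟨j, by omega⟩

/-- Over three elements a decomposition into isometric 3-spaces refines to lines. -/
theorem refine_three (hq : Fintype.card F = 3) {t : ℕ} {D : Fin t → Submodule F (ι → F)}
    (hD : IsOrthogonalMDecomposition Q 3 D) :
    ∃ D' : Fin (t * 3) → Submodule F (ι → F), IsOrthogonalMDecomposition Q 1 D' ∧
      decompositionStabilizer D ⊓ Cfsg.isometryGroup F Q ≤ decompositionStabilizer D' := by
  classical
  have hb := hQ.polar_bilinear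
  have hd := hD.decomp.decomp
  obtain ⟨h3, hF⟩ := three_facts hq
  let i₀ : Fin t := ⟨0, by have := hd.two_le; omega⟩
  let b := Module.finBasisOfFinrankEq F (D i₀) (hd.finrank_eq i₀)
  let T : Matrix ι (Fin 3) F := Matrix.of fun r p => (b p : ι → F) r
  have hT : ∀ x, T *ᵥ x = ((∑ p, x p • b p : D i₀) : ι → F) := fun x => by
    funext r
    simp [T, Matrix.mulVec, dotProduct, mul_comm]
  set A := Tᵀ * G₀ * T with hA
  have hAf : ∀ x y, gramForm A x y = B (T *ᵥ x) (T *ᵥ y) := fun x y => by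
    have h' : gramForm A x y = gramForm G₀ (T *ᵥ x) (T *ᵥ y) := by
      simp only [hA, gramForm, ← Matrix.mulVec_mulVec, Matrix.dotProduct_mulVec x Tᵀ, Matrix.vecMul_transpose]
    rwa [gram_eq hQ] at h'
  have hAs : Aᵀ = A := by
    rw [hA, Matrix.transpose_mul, Matrix.transpose_mul, Matrix.transpose_transpose, (sym_gram hQ).symm, Matrix.mul_assoc]
  have hAd : A.det ≠ 0 := by
    intro h
    obtain ⟨w, hw0, hw⟩ := Matrix.exists_mulVec_eq_zero_iff.mpr h
    have hu0 : T *ᵥ w ≠ 0 := fun h0 => by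
      rw [hT, Submodule.coe_eq_zero] at h0
      exact hw0 (funext (Fintype.linearIndependent_iff.mp b.linearIndependent w h0))
    obtain ⟨x, hx, hne⟩ := (hD.decomp.nondegenerate i₀ (T *ᵥ w) (by rw [hT]; exact Submodule.coe_mem _) hu0).1
    apply hne
    have hxT : x = T *ᵥ b.repr ⟨x, hx⟩ := by rw [hT, b.sum_repr]
    rw [hxT, ← hAf, gramForm, hw, dotProduct_zero]
  obtain ⟨M, κ, hκ, hM⟩ := exists_frame_odd hodd (d := 3) (by decide) hAs hAd
  let u : Fin 3 → ι → F := fun l => T *ᵥ (M *ᵥ Pi.single l 1)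
  have huD : ∀ l, u l ∈ D i₀ := fun l => by simp only [u, hT]; exact Submodule.coe_mem _
  have huu : ∀ l m, B (u l) (u m) = if l = m then κ else 0 := fun l m => by
    rw [← hAf, gramForm_apply, hM, gramForm_single]
    simp [Matrix.one_apply]
  choose e he using fun i => hD.isometric i₀ i
  let v : Fin t × Fin 3 → ι → F := fun p => ((e p.1 ⟨u p.2, huD p.2⟩ : D p.1) : ι → F)
  have hvD : ∀ p, v p ∈ D p.1 := fun p => Submodule.coe_mem _
  have heB : ∀ i (x y : D i₀), B ((e i x : D i) : ι → F) ((e i y : D i) : ι → F) = B (x : ι → F) (y : ι → F) :=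
    fun i x y => by
      rw [QuadraticMap.polar, QuadraticMap.polar, ← Submodule.coe_add, ← map_add, he, he, he, Submodule.coe_add]
  have hvv : ∀ p q, B (v p) (v q) = if p = q then κ else 0 := by
    rintro ⟨i, l⟩ ⟨j, m⟩
    rcases eq_or_ne i j with rfl | hij
    · rw [heB i ⟨u l, huD l⟩ ⟨u m, huD m⟩, huu]
      simp
    · rw [hD.decomp.orthogonal i j hij _ (hvD (i, l)) _ (hvD (j, m)), if_neg (by simp [hij])]
  have hv0 : ∀ p, v p ≠ 0 := fun p h => hκ (by
    have := hvv p p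
    rw [if_pos rfl, h, Cfsg.Agent.Lib.Subspaces.OrthForm.zero_right hQ] at this
    exact this.symm)
  have hvQ : ∀ p, Q (v p) = κ / 2 := fun p => by rw [eq_half hQ hodd, hvv, if_pos rfl]
  have hcomb : ∀ {ι' : Type} [Fintype ι'] [DecidableEq ι'] (w : ι' → Fin t × Fin 3), Function.Injective w →
      ∀ (a : ι' → F) k, B (∑ l, a l • v (w l)) (v (w k)) = a k * κ := by
    intro ι' _ _ w hw a k
    rw [← gram_eq hQ, gramForm, sum_dotProduct, Finset.sum_eq_single k]
    · rw [smul_dotProduct, smul_eq_mul]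
      congr 1
      have h := hvv (w k) (w k)
      rwa [if_pos rfl, ← gram_eq hQ, gramForm] at h
    · intro l _ hl
      have h := hvv (w l) (w k)
      rw [if_neg (fun hh => hl (hw hh)), ← gram_eq hQ, gramForm] at h
      rw [smul_dotProduct, h, smul_zero]
    · simp
  have hli : LinearIndependent F v := by
    rw [Fintype.linearIndependent_iff]
    intro a ha p
    have h := hcomb id Function.injective_id a p
    simp only [id] at h
    rw [ha, QuadraticMap.polar_comm, Cfsg.Agent.Lib.Subspaces.OrthForm.zero_right hQ] at h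
    exact (mul_eq_zero.mp h.symm).resolve_right hκ
  have hmemD : ∀ i, ∀ x ∈ D i, ∃ a : Fin 3 → F, x = ∑ l, a l • v (i, l) := by
    intro i x hx
    have hsp : Submodule.span F (Set.range fun l => v (i, l)) = D i := by
      refine Submodule.eq_of_le_of_finrank_le (Submodule.span_le.mpr ?_) ?_
      · rintro _ ⟨l, rfl⟩; exact hvD (i, l)
      · rw [hd.finrank_eq, show (fun l => v (i, l)) = v ∘ Prod.mk i from rfl,
          finrank_span_eq_card (hli.comp _ (Prod.mk_right_injective i)), Fintype.card_fin]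
    rw [← hsp, Submodule.mem_span_range_iff_exists_fun] at hx
    obtain ⟨a, ha⟩ := hx
    exact ⟨a, ha.symm⟩
  have huniq : ∀ i, ∀ x ∈ D i, Q x = κ / 2 → ∃ (l : Fin 3) (a : F), a ≠ 0 ∧ x = a • v (i, l) := by
    intro i x hx hQx
    obtain ⟨a, rfl⟩ := hmemD i x hx
    have h1 : a 0 * a 0 + a 1 * a 1 + a 2 * a 2 = 1 := by
      have h2 := congrArg (fun z => z * 2) hQx
      simp only [div_mul_cancel₀ _ (two_ne_zero' hodd)] at h2
      rw [mul_comm, ← polar_self hQ] at h2
      have h3' : ∀ y, B y (∑ l, a l • v (i, l)) =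
          a 0 * B y (v (i, 0)) + a 1 * B y (v (i, 1)) + a 2 * B y (v (i, 2)) := fun y => by
        rw [Fin.sum_univ_three, hb.add_right, hb.add_right, hb.smul_right, hb.smul_right, hb.smul_right]
      rw [h3', hcomb _ (Prod.mk_right_injective i), hcomb _ (Prod.mk_right_injective i),
        hcomb _ (Prod.mk_right_injective i)] at h2
      exact mul_right_cancel₀ hκ (by linear_combination h2)
    have hsq : ∀ z : F, z = 0 ∨ z * z = 1 := fun z => by
      rcases hF z with h | h | h <;> simp [h]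
    rcases hsq (a 0) with h0 | h0 <;> rcases hsq (a 1) with h1' | h1' <;> rcases hsq (a 2) with h2' | h2'
    · exfalso; rw [h0, h1', h2'] at h1; simp at h1
    · exact ⟨2, a 2, fun h => by simp [h] at h2', by simp [Fin.sum_univ_three, h0, h1']⟩
    · exact ⟨1, a 1, fun h => by simp [h] at h1', by simp [Fin.sum_univ_three, h0, h2']⟩
    · exfalso; rw [h0, h1', h2'] at h1; exact one_ne_zero (show (1 : F) = 0 by linear_combination h1)
    · exact ⟨0, a 0, fun h => by simp [h] at h0, by simp [Fin.sum_univ_three, h1', h2']⟩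
    · exfalso; rw [h0, h1', h2'] at h1; exact one_ne_zero (show (1 : F) = 0 by linear_combination h1)
    · exfalso; rw [h0, h1', h2'] at h1; exact one_ne_zero (show (1 : F) = 0 by linear_combination h1)
    · exfalso; rw [h0, h1', h2'] at h1; exact one_ne_zero (show (1 : F) = 0 by linear_combination h3 - h1)
  let π := (finProdFinEquiv (m := t) (n := 3)).symm
  let D' : Fin (t * 3) → Submodule F (ι → F) := fun p => Submodule.span F {v (π p)}
  have hli' : LinearIndependent F (v ∘ π) := hli.comp _ π.injective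
  refine ⟨D', ⟨⟨⟨by have := hd.two_le; omega, one_pos, fun p => finrank_span_singleton (hv0 _),
    hli'.iSupIndep_span_singleton, ?_⟩, fun p => ?_, fun p q hpq => ?_⟩, fun p q => ?_⟩, ?_⟩
  · show ⨆ p, Submodule.span F {(v ∘ π) p} = ⊤
    rw [← Submodule.span_range_eq_iSup]
    refine Submodule.eq_top_of_finrank_eq ?_
    rw [finrank_span_eq_card hli', Fintype.card_fin, Cfsg.Agent.Lib.AschbacherSp.decomposition_card hd,
      Module.finrank_pi]
  · intro w hw hw0
    obtain ⟨a, rfl⟩ := Submodule.mem_span_singleton.mp hw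
    have ha : a ≠ 0 := fun h => hw0 (by rw [h, zero_smul])
    refine ⟨⟨_, Submodule.mem_span_singleton_self _, ?_⟩, ⟨_, Submodule.mem_span_singleton_self _, ?_⟩⟩
    · rw [hb.smul_right, hvv, if_pos rfl]; exact mul_ne_zero ha hκ
    · rw [hb.smul_left, hvv, if_pos rfl]; exact mul_ne_zero ha hκ
  · intro x hx y hy
    obtain ⟨a, rfl⟩ := Submodule.mem_span_singleton.mp hx
    obtain ⟨c, rfl⟩ := Submodule.mem_span_singleton.mp hy
    rw [hb.smul_left, hb.smul_right, hvv, if_neg fun h => hpq (π.injective h), mul_zero, mul_zero]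
  · refine ⟨(LinearEquiv.toSpanNonzeroSingleton F _ _ (hv0 (π p))).symm.trans
      (LinearEquiv.toSpanNonzeroSingleton F _ _ (hv0 (π q))), fun w => ?_⟩
    obtain ⟨a, rfl⟩ := (LinearEquiv.toSpanNonzeroSingleton F _ _ (hv0 (π p))).surjective w
    rw [LinearEquiv.trans_apply, LinearEquiv.symm_apply_apply]
    show Q (a • v (π q)) = Q (a • v (π p))
    rw [hQ.smul, hQ.smul, hvQ, hvQ]
  rintro g ⟨hgD, hgI⟩
  obtain ⟨σ, hσ⟩ := hgD
  have hmap : ∀ p, ∃ (l : Fin 3) (a : F), a ≠ 0 ∧ (g : Matrix ι ι F) *ᵥ v p = a • v (σ p.1, l) := fun p => by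
    refine huniq _ _ ?_ ((hgI (v p) 0).trans (hvQ p))
    rw [← hσ p.1, ← Matrix.toLin'_apply]
    exact Submodule.mem_map_of_mem (hvD p)
  choose l a ha hla using hmap
  let τ : Fin t × Fin 3 → Fin t × Fin 3 := fun p => (σ p.1, l p)
  have hτ : Function.Injective τ := by
    intro p q h
    by_contra hne
    have h1 := congrArg (fun w => ((g⁻¹ : GL ι F) : Matrix ι ι F) *ᵥ w) (hla p)
    have h2 := congrArg (fun w => ((g⁻¹ : GL ι F) : Matrix ι ι F) *ᵥ w) (hla q)
    simp only [inv_mulVec_cancel, Matrix.mulVec_smul] at h1 h2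
    have hpq : v p = (a p * (a q)⁻¹) • v q := by
      rw [h1, h2, smul_smul, mul_assoc, inv_mul_cancel₀ (ha q), mul_one]
      exact congrArg (fun z => a p • (((g⁻¹ : GL ι F) : Matrix ι ι F) *ᵥ v z)) h
    have h3 := hvv p q
    rw [if_neg hne, hpq, hb.smul_left, hvv, if_pos rfl] at h3
    exact mul_ne_zero (mul_ne_zero (ha p) (inv_ne_zero (ha q))) hκ h3
  refine ⟨(π.trans (Equiv.ofBijective τ (Finite.injective_iff_bijective.mp hτ))).trans π.symm, fun p => ?_⟩
  show (Submodule.span F {v (π p)}).map _ = Submodule.span F {v (π (π.symm (τ (π p))))}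
  rw [π.apply_symm_apply, Submodule.map_span, Set.image_singleton, Matrix.toLin'_apply, hla,
    Submodule.span_singleton_smul_eq (isUnit_iff_ne_zero.mpr (ha _))]

/-- `Ω` does not preserve a decomposition of the form as a tensor square. -/
theorem not_le_wreath_two (h5 : 5 ≤ Fintype.card ι) {k : ℕ} (hk : 3 ≤ k) {e : ι ≃ (Fin 2 → Fin k)} {P : GL ι F}
    {f₁ : (Fin k → F) → (Fin k → F) → F} (hs : IsSymmetricForm f₁)
    (hf : IsTensorPowerFormStructure id B f₁ e P) : ¬ omegaGL Q ≤ tensorWreathSubgroup k 2 e P := by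
  classical
  intro hle
  obtain ⟨c, hc, hf⟩ := hf
  set A := gramMatrix f₁ with hA
  have hgA := gramForm_gramMatrix hs.bilinear
  have hAsym : Sym A := ⟨Matrix.ext fun i j => hs.symm _ _,
    (Cfsg.Agent.Lib.PrimeDim.Fields.isSesqui_of_bilinear hs.bilinear).det_ne_zero Function.bijective_id
      hs.nondegenerate⟩
  -- the vectors in the small space
  obtain ⟨s, hs0, hss⟩ : ∃ s : Fin k → F, s ≠ 0 ∧ gramForm A s s = 0 := by
    have h2 := two_ne_zero' hodd
    let Q₁ : (Fin k → F) → F := fun x => gramForm A x x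
    have hpol : ∀ x y, QuadraticMap.polar Q₁ x y = 2 * gramForm A x y := fun x y => by
      have hxy := hAsym.flip x y
      simp only [QuadraticMap.polar, Q₁, gramForm, Matrix.mulVec_add, add_dotProduct, dotProduct_add] at hxy ⊢
      linear_combination -hxy
    have hQ₁ : IsNondegenerateQuadraticForm Q₁ := by
      refine ⟨fun a x => ?_, ⟨fun x y z => ?_, fun a x z => ?_, fun z x y => ?_, fun a z x => ?_⟩, fun x hx => ?_⟩
      · simp [Q₁, gramForm, Matrix.mulVec_smul, dotProduct_smul, smul_dotProduct]; ring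
      all_goals try rw [hpol, hpol]
      · rw [hpol, (gramForm_bilinear A).add_left]; ring
      · rw [(gramForm_bilinear A).smul_left]; ring
      · rw [hpol, (gramForm_bilinear A).add_right]; ring
      · rw [(gramForm_bilinear A).smul_right]; ring
      · obtain ⟨⟨y, hy⟩, ⟨z, hz⟩⟩ := hAsym.isSymmetric.nondegenerate x hx
        exact ⟨⟨y, by rw [hpol]; exact mul_ne_zero h2 hy⟩, ⟨z, by rw [hpol]; exact mul_ne_zero h2 hz⟩⟩
    obtain ⟨s, -, hs0, hsQ⟩ := Cfsg.Agent.Lib.Subspaces.OrthNondeg.exists_singular_in hQ₁ (S := ⊤)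
      (by rw [finrank_top, Module.finrank_fin_fun]; exact hk)
    exact ⟨s, hs0, hsQ⟩
  obtain ⟨a, has, haa⟩ : ∃ a : Fin k → F, gramForm A s a = 0 ∧ gramForm A a a ≠ 0 := by
    by_contra! hcon
    set S := Submodule.span F {s} with hS
    have hmem : ∀ x, x ∈ perp A S ↔ gramForm A s x = 0 := fun x => by
      rw [mem_perp]
      refine ⟨fun h => h s (Submodule.mem_span_singleton_self s), fun h w hw => ?_⟩
      obtain ⟨r, rfl⟩ := Submodule.mem_span_singleton.mp hw
      rw [(gramForm_bilinear A).smul_left, h, mul_zero]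
    have hle' : perp A S ≤ perp A (perp A S) := fun x hx => mem_perp.mpr fun y hy => by
      have h1 := hcon (y + x) ((hmem _).mp (add_mem hy hx))
      rw [(gramForm_bilinear A).add_left, (gramForm_bilinear A).add_right, (gramForm_bilinear A).add_right,
        hcon y ((hmem y).mp hy), hcon x ((hmem x).mp hx), hAsym.flip x y] at h1
      exact (mul_eq_zero.mp (show (2 : F) * gramForm A y x = 0 by linear_combination h1)).resolve_left
        (two_ne_zero' hodd)
    rw [perp_perp hAsym] at hle'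
    have h1 := Submodule.finrank_mono hle'
    have h2 := finrank_perp hAsym S
    rw [hS, finrank_span_singleton hs0] at h1 h2
    rw [Fintype.card_fin] at h2
    omega
  obtain ⟨w, hsw⟩ : ∃ w, gramForm A s w = 1 := by
    obtain ⟨w₀, hw₀⟩ := (hAsym.isSymmetric.nondegenerate s hs0).2
    exact ⟨(gramForm A s w₀)⁻¹ • w₀, by rw [(gramForm_bilinear A).smul_right, inv_mul_cancel₀ hw₀]⟩
  -- pure vectors
  let pv : (Fin k → F) → (Fin k → F) → (Fin 2 → Fin k) → F := fun x y z => x (z 0) * y (z 1)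
  have hval : ∀ x y x' y', B ((P : Matrix ι ι F) *ᵥ (pv x y ∘ e)) ((P : Matrix ι ι F) *ᵥ (pv x' y' ∘ e)) =
      c * (gramForm A x x' * gramForm A y y') := by
    intro x y x' y'
    rw [hf, ← (finTwoArrowEquiv (Fin k)).symm.sum_comp]
    congr 1
    simp_rw [← (finTwoArrowEquiv (Fin k)).symm.sum_comp (fun b => pv x y _ * _ * id (pv x' y' b))]
    simp [pv, gramForm, dotProduct, Matrix.mulVec, Fintype.sum_prod_type, Fin.prod_univ_two, Finset.sum_mul,
      Finset.mul_sum]
    rw [Finset.sum_comm]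
    refine Finset.sum_congr rfl fun i _ => ?_
    conv_rhs => rw [Finset.sum_comm]
    refine Finset.sum_congr rfl fun j _ => ?_
    conv_rhs => rw [Finset.sum_comm]
    exact Finset.sum_congr rfl fun l _ => Finset.sum_congr rfl fun m _ => by ring
  let Pure : (ι → F) → Prop := fun v => ∃ x y, v = (P : Matrix ι ι F) *ᵥ (pv x y ∘ e)
  -- pure vectors are preserved
  have hX : ∀ X ∈ tensorWreathStandard k 2 F, ∀ x y, ∃ x' y',
      (X : Matrix (Fin 2 → Fin k) (Fin 2 → Fin k) F) *ᵥ pv x y = pv x' y' := by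
    intro X hXm
    induction hXm using Subgroup.closure_induction with
    | mem g hg =>
      intro x y
      rcases hg with ⟨gs, hgs⟩ | ⟨σ, hσ⟩
      · refine ⟨(gs 0 : Matrix (Fin k) (Fin k) F) *ᵥ x, (gs 1 : Matrix (Fin k) (Fin k) F) *ᵥ y, funext fun z => ?_⟩
        simp only [Matrix.mulVec, dotProduct, pv, hgs, Fin.prod_univ_two, Finset.sum_mul, Finset.mul_sum]
        rw [← (finTwoArrowEquiv (Fin k)).symm.sum_comp, Fintype.sum_prod_type, Finset.sum_comm]
        simp only [finTwoArrowEquiv_symm_apply, Matrix.cons_val_zero, Matrix.cons_val_one]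
        exact Finset.sum_congr rfl fun i _ => Finset.sum_congr rfl fun j _ => by ring
      · rcases (show ∀ p : Fin 2, p = 0 ∨ p = 1 by decide) (σ 0) with h0 | h0
        · have h1 : σ 1 = 1 := ((show ∀ p : Fin 2, p = 0 ∨ p = 1 by decide) (σ 1)).resolve_left
            fun h => absurd (σ.injective (h.trans h0.symm)) (by decide)
          refine ⟨x, y, funext fun z => ?_⟩
          simp [Matrix.mulVec, dotProduct, hσ, pv, h0, h1]
        · have h1 : σ 1 = 0 := ((show ∀ p : Fin 2, p = 0 ∨ p = 1 by decide) (σ 1)).resolve_right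
            fun h => absurd (σ.injective (h.trans h0.symm)) (by decide)
          refine ⟨y, x, funext fun z => ?_⟩
          simp [Matrix.mulVec, dotProduct, hσ, pv, h0, h1, mul_comm]
    | one => exact fun x y => ⟨x, y, by simp⟩
    | mul g h _ _ hg hh =>
      intro x y
      obtain ⟨x₁, y₁, h1⟩ := hh x y
      obtain ⟨x₂, y₂, h2⟩ := hg x₁ y₁
      exact ⟨x₂, y₂, by rw [Units.val_mul, ← Matrix.mulVec_mulVec, h1, h2]⟩
    | inv g _ hg =>
      have hpow : ∀ j : ℕ, ∀ x y, ∃ x' y',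
          ((g ^ j : GL (Fin 2 → Fin k) F) : Matrix (Fin 2 → Fin k) (Fin 2 → Fin k) F) *ᵥ pv x y = pv x' y' := by
        intro j
        induction j with
        | zero => exact fun x y => ⟨x, y, by simp⟩
        | succ j ih =>
          intro x y
          obtain ⟨x₁, y₁, h1⟩ := hg x y
          obtain ⟨x₂, y₂, h2⟩ := ih x₁ y₁
          exact ⟨x₂, y₂, by rw [pow_succ, Units.val_mul, ← Matrix.mulVec_mulVec, h1, h2]⟩
      have hinv : g⁻¹ = g ^ (orderOf g - 1) := by
        refine inv_eq_of_mul_eq_one_right ?_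
        rw [← pow_succ', Nat.sub_add_cancel (orderOf_pos g), pow_orderOf_eq_one]
      rw [hinv]
      exact hpow _
  have hpres : ∀ g ∈ tensorWreathSubgroup k 2 e P, ∀ v, Pure v → Pure ((g : Matrix ι ι F) *ᵥ v) := by
    rintro _ ⟨_, ⟨X, hXm, rfl⟩, rfl⟩ _ ⟨x, y, rfl⟩
    obtain ⟨x', y', h⟩ := hX X hXm x y
    refine ⟨x', y', ?_⟩
    show ((P * glReindex e.symm X * P⁻¹ : GL ι F) : Matrix ι ι F) *ᵥ _ = _
    rw [Units.val_mul, Units.val_mul, ← Matrix.mulVec_mulVec, inv_mulVec_cancel, ← Matrix.mulVec_mulVec, ← h]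
    congr 1
    funext i
    show ((X : Matrix (Fin 2 → Fin k) (Fin 2 → Fin k) F).submatrix e e *ᵥ (pv x y ∘ e)) i = _
    rw [Matrix.submatrix_mulVec_equiv]
    simp [Function.comp_assoc]
  -- a singular vector which is not pure
  set v₁ := (P : Matrix ι ι F) *ᵥ (pv s a ∘ e)
  set v₂ := (P : Matrix ι ι F) *ᵥ (pv a s ∘ e)
  have hz : (P : Matrix ι ι F) *ᵥ ((pv s a + pv a s) ∘ e) = v₁ + v₂ := by
    rw [← Matrix.mulVec_add]; rfl
  have hB0 : ∀ u, B u u = 0 → Q u = 0 := fun u hu => by rw [eq_half hQ hodd, hu, zero_div]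
  have hnot : ¬ Pure (v₁ + v₂) := by
    rintro ⟨x, y, hxy⟩
    rw [← hz] at hxy
    have h := congrArg (fun u => ((P⁻¹ : GL ι F) : Matrix ι ι F) *ᵥ u) hxy
    simp only [inv_mulVec_cancel] at h
    have hij : ∀ i j, s i * a j + a i * s j = x i * y j := fun i j => by
      simpa [pv] using congrFun h (e.symm ![i, j])
    have hcon : ∀ u, gramForm A a u • s + gramForm A s u • a = gramForm A y u • x := fun u => by
      funext i
      simp only [gramForm, dotProduct, Pi.add_apply, Pi.smul_apply, smul_eq_mul, Finset.sum_mul,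
        ← Finset.sum_add_distrib]
      exact Finset.sum_congr rfl fun j _ => by linear_combination (A *ᵥ u) j * hij i j
    have ea := hcon a
    rw [has, zero_smul, add_zero] at ea
    have hy : gramForm A y a ≠ 0 := fun h0 => by
      rw [h0, zero_smul, smul_eq_zero] at ea
      exact ea.elim haa hs0
    have hx : x = ((gramForm A y a)⁻¹ * gramForm A a a) • s := by
      rw [mul_smul, ea, inv_smul_smul₀ hy]
    have ew := hcon w
    rw [hsw, one_smul, hx, smul_smul] at ew
    have ha' : a = (gramForm A y w * ((gramForm A y a)⁻¹ * gramForm A a a) - gramForm A a w) • s := by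
      rw [sub_smul, ← ew]; abel
    apply haa
    rw [ha', (gramForm_bilinear A).smul_left, (gramForm_bilinear A).smul_right, hss, mul_zero, mul_zero]
  have hsa : gramForm A a s = 0 := by rw [hAsym.flip]; exact has
  have hz0 : Q (v₁ + v₂) = 0 := by
    rw [Cfsg.Agent.Lib.Subspaces.OrthForm.Q_add (Q := Q), hval, hB0 _ (by rw [hval, hss]; ring),
      hB0 _ (by rw [hval, hss]; ring), has, hsa]
    ring
  have hzne : v₁ + v₂ ≠ 0 := fun h => hnot ⟨0, 0, by
    rw [h, show (pv 0 0 ∘ e : ι → F) = 0 by funext i; simp [pv], Matrix.mulVec_zero]⟩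
  have hy0 : (P : Matrix ι ι F) *ᵥ (pv s s ∘ e) ≠ 0 := fun h => by
    obtain ⟨i, hi⟩ := Function.ne_iff.mp hs0
    have h' := congrArg (fun u => ((P⁻¹ : GL ι F) : Matrix ι ι F) *ᵥ u) h
    simp only [inv_mulVec_cancel, Matrix.mulVec_zero] at h'
    exact mul_ne_zero hi hi (by simpa [pv] using congrFun h' (e.symm ![i, i]))
  obtain ⟨g, hg, hgv⟩ := omega_map hQ h5 hy0 hzne ((hB0 _ (by rw [hval, hss]; ring)).trans hz0.symm)
  exact hnot (hgv ▸ hpres g (hle hg) _ ⟨s, s, rfl⟩)

/-- The members a maximal subgroup of `Ω` may be, in odd dimension at least seven. -/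
theorem odd_maximal (hno : Odd (Fintype.card ι)) (h7 : 7 ≤ Fintype.card ι)
    (hstd : ∀ F₀ : Subfield F, IsQuadFormRationalStructure Q F₀ 1) {H : Subgroup (GL ι F)}
    (hH : IsMaximalIn (omegaGL Q) H) :
    (∃ W : Submodule F (ι → F), W ≠ ⊥ ∧ IsTotallySingularQuad Q W ∧ H = subspaceStabilizer W ⊓ omegaGL Q) ∨
    (∃ W : Submodule F (ι → F), W ≠ ⊥ ∧ Even (Module.finrank F W) ∧ IsNondegenerateOn B W ∧
      ¬ (Fintype.card F = 3 ∧ Module.finrank F W = 2 ∧ IsPlusTypeOn Q W) ∧
      H = subspaceStabilizer W ⊓ omegaGL Q) ∨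
    (∃ (t k : ℕ) (D : Fin t → Submodule F (ι → F)), 2 ≤ t ∧ (1 < k ∨ k = 1 ∧ (Fintype.card F).Prime) ∧
      IsOrthogonalMDecomposition Q k D ∧ t * k = Fintype.card ι ∧ H ≤ decompositionStabilizer D) ∨
    (∃ (r : ℕ) (K : Subalgebra F (Matrix ι ι F)), r.Prime ∧ Fintype.card ι ≠ r ∧ r ∣ Fintype.card ι ∧
      IsFieldSubalgebra r K ∧ IsSelfAdjointFor B K ∧ H = subalgebraNormalizer K ⊓ omegaGL Q) ∨
    (∃ (n₁ n₂ : ℕ), 3 ≤ n₁ ∧ n₁ < n₂ ∧ n₁ * n₂ = Fintype.card ι) ∨
    (∃ (F₀ : Subfield F) (r : ℕ) (P : GL ι F), r.Prime ∧ Fintype.card F = Nat.card F₀ ^ r ∧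
      IsQuadFormRationalStructure Q F₀ P ∧ H = subfieldSubgroup F₀ P ⊓ omegaGL Q) ∨
    (∃ (k t : ℕ) (e : ι ≃ (Fin t → Fin k)) (P : GL ι F) (f₁ : (Fin k → F) → (Fin k → F) → F),
      3 ≤ k ∧ 2 ≤ t ∧ k ^ t = Fintype.card ι ∧ ¬ (Fintype.card F = 3 ∧ k = 3) ∧ IsSymmetricForm f₁ ∧
      IsTensorPowerFormStructure id B f₁ e P ∧ H ≤ tensorWreathSubgroup k t e P) ∨
    InOrthogonalResidualClass H := by
  have h2 := two_ne_zero' hodd
  have hHI : H ≤ Cfsg.isometryGroup F Q := hH.1.le.trans (omegaGL_le_isometryGroup Q)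
  rcases odd_cases hQ hodd hno (by omega) hstd H hHI with hgeo | hres
  swap
  · exact Or.inr (Or.inr (Or.inr (Or.inr (Or.inr (Or.inr (Or.inr hres))))))
  rcases hgeo with ⟨W, h0, h1, h⟩ | ⟨W, h0, h1, hW, h⟩ | ⟨t, k, D, hk, hD, htk, h⟩ |
    ⟨r, K, hr, hrn, hdvd, hK, hs, h⟩ | ⟨n₁, n₂, e, P, f₁, f₂, h3, h12, hc, -⟩ |
    ⟨F₀, r, P, hr, hq, hP, h⟩ | ⟨k, t, e, P, f₁, hk, ht, hc, hne, hs, hf, h⟩
  · refine Or.inl ⟨W, h0, h1, eq_inf hH h (not_le_subspace hQ h2 h7 h0 ?_)⟩
    rintro rfl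
    haveI : Nonempty ι := Fintype.card_pos_iff.mp (by omega)
    obtain ⟨v, hv⟩ : ∃ v : ι → F, v ≠ 0 := exists_ne 0
    obtain ⟨x, hx⟩ := (hQ.nondegenerate v hv).2
    exact hx (by rw [QuadraticMap.polar, h1 _ Submodule.mem_top, h1 _ Submodule.mem_top, h1 _ Submodule.mem_top]; ring)
  · obtain ⟨W', a0, a1, ae, an, ax, hle⟩ := even_subspace hQ hodd hno (by omega) h0 h1 hW
    exact Or.inr (Or.inl ⟨W', a0, ae, an, ax,
      eq_inf hH ((le_inf h hHI).trans hle) (not_le_subspace hQ h2 h7 a0 a1)⟩)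
  · exact Or.inr (Or.inr (Or.inl ⟨t, k, D, hD.decomp.decomp.two_le, hk, hD, htk, h⟩))
  · exact Or.inr (Or.inr (Or.inr (Or.inl ⟨r, K, hr, hrn, hdvd, hK, hs,
      eq_inf hH h (not_le_subalgebraNormalizer hQ h2 h7 hK hr.two_le)⟩)))
  · exact Or.inr (Or.inr (Or.inr (Or.inr (Or.inl ⟨n₁, n₂, h3, h12, hc⟩))))
  · exact Or.inr (Or.inr (Or.inr (Or.inr (Or.inr (Or.inl ⟨F₀, r, P, hr, hq, hP,
      eq_inf hH h (not_le_subfieldSubgroup hQ h2 h7 (subfield_ne_top hr hq) P)⟩)))))
  · exact Or.inr (Or.inr (Or.inr (Or.inr (Or.inr (Or.inr (Or.inl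
      ⟨k, t, e, P, f₁, hk, ht, hc, hne, hs, hf, h⟩))))))

/-- The members a maximal subgroup of `Ω` may be, in odd prime dimension at least seven. -/
theorem prime_maximal {p : ℕ} (hp : p.Prime) (hn : Fintype.card ι = p) (h7 : 7 ≤ p)
    (hstd : ∀ F₀ : Subfield F, IsQuadFormRationalStructure Q F₀ 1) {H : Subgroup (GL ι F)}
    (hH : IsMaximalIn (omegaGL Q) H) :
    (∃ W : Submodule F (ι → F), W ≠ ⊥ ∧ IsTotallySingularQuad Q W ∧ H = subspaceStabilizer W ⊓ omegaGL Q) ∨
    (∃ W : Submodule F (ι → F), W ≠ ⊥ ∧ Even (Module.finrank F W) ∧ IsNondegenerateOn B W ∧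
      ¬ (Fintype.card F = 3 ∧ Module.finrank F W = 2 ∧ IsPlusTypeOn Q W) ∧
      H = subspaceStabilizer W ⊓ omegaGL Q) ∨
    ((Fintype.card F).Prime ∧ ∃ D : Fin p → Submodule F (ι → F), IsOrthogonalMDecomposition Q 1 D ∧
      H = decompositionStabilizer D ⊓ omegaGL Q) ∨
    (∃ (F₀ : Subfield F) (r : ℕ) (P : GL ι F), r.Prime ∧ Fintype.card F = Nat.card F₀ ^ r ∧
      IsQuadFormRationalStructure Q F₀ P ∧ H = subfieldSubgroup F₀ P ⊓ omegaGL Q) ∨
    InOrthogonalResidualClass H := by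
  have hno : Odd (Fintype.card ι) := hn ▸ hp.odd_of_ne_two (by omega)
  rcases odd_maximal hQ hodd hno (by omega) hstd hH with h | h | ⟨t, k, D, ht, hk, hD, htk, h⟩ |
    ⟨r, K, hr, hrn, hdvd, -⟩ | ⟨n₁, n₂, h3, h12, hc⟩ | h | ⟨k, t, e, P, f₁, hk, ht, hc, -⟩ | h
  · exact Or.inl h
  · exact Or.inr (Or.inl h)
  · rw [hn] at htk
    rcases (Nat.dvd_prime hp).mp ⟨k, htk.symm⟩ with h1 | h1
    · omega
    · subst h1
      have hk1 : k = 1 := ((Nat.mul_eq_left (by omega)).mp htk)
      subst hk1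
      refine Or.inr (Or.inr (Or.inl ⟨hk.elim (fun h => absurd h (lt_irrefl 1)) And.right, D, hD, eq_inf hH h ?_⟩))
      exact not_le_decomposition hQ (two_ne_zero' hodd) hD.decomp (Or.inr ⟨rfl, by omega⟩)
  · exact absurd (((Nat.prime_dvd_prime_iff_eq hr hp).mp (hn ▸ hdvd)).symm) (hn ▸ hrn)
  · rw [hn] at hc
    rcases (Nat.dvd_prime hp).mp ⟨n₂, hc.symm⟩ with h1 | h1
    · omega
    · subst h1
      have := (Nat.mul_eq_left (by omega)).mp hc
      omega
  · exact Or.inr (Or.inr (Or.inr (Or.inl h)))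
  · have := Nat.Prime.eq_one_of_pow (hc ▸ hn.symm ▸ hp : (k ^ t).Prime)
    omega
  · exact Or.inr (Or.inr (Or.inr (Or.inr h)))

end cases

end Cfsg.Agent.Lib.AschbacherOrth
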