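import Cfsg.Agent.Lib.AschbacherSp.Basic
import Cfsg.Agent.Lib.AschbacherSp.Forms

/-!
Groups of isometries of a symmetric matrix: the adjoint involution, invariant forms of absolutely irreducible groups,
descent along a unitary form.
-/

set_option autoImplicit false
set_option linter.style.haveILetI false
set_option linter.unusedSectionVars false

namespace Cfsg.Agent.Lib.AschbacherOrth

open Cfsg.Geo Cfsg.Agent.Lib.PrimeDim.Basic Cfsg.Agent.Lib.PrimeDim.Fields Cfsg.Agent.Lib.Aschbacher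
open Cfsg.Agent.Lib.AschbacherSp (Isom mem_isom gramForm_apply_isom gramForm_single gramForm_ext adj descend)
open Cfsg.Agent.Lib.Unitary (conj conj_apply pow_q_q one_lt_q add_pow_q norm_surj)
open scoped Matrix MatrixGroups

variable {ι : Type} [Fintype ι] [DecidableEq ι] {F : Type*} [Field F]

/-- A non-degenerate symmetric matrix. -/
structure Sym (G : Matrix ι ι F) : Prop where
  symm : Gᵀ = G
  det_ne : G.det ≠ 0

theorem Sym.unit {G : Matrix ι ι F} (hG : Sym G) : IsUnit G.det := isUnit_iff_ne_zero.mpr hG.det_ne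

theorem Sym.flip {G : Matrix ι ι F} (hG : Sym G) (u v : ι → F) : gramForm G u v = gramForm G v u := by
  rw [gramForm_flip, hG.symm]

theorem Sym.isSymmetric {G : Matrix ι ι F} (hG : Sym G) : IsSymmetricForm (gramForm G) :=
  ⟨gramForm_bilinear G, hG.flip, gramForm_nondegenerate hG.det_ne⟩

section adjoint

variable {G : Matrix ι ι F} (hG : Sym G)
include hG

theorem gramForm_adj (M : Matrix ι ι F) (u v : ι → F) :
    gramForm G (M *ᵥ u) v = gramForm G u (adj G M *ᵥ v) := by
  rw [adj, gramForm, gramForm, Matrix.mulVec_mulVec, ← mul_assoc, Matrix.mul_nonsing_inv_cancel_left _ _ hG.unit,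
    ← Matrix.mulVec_mulVec, Matrix.dotProduct_mulVec u Mᵀ, Matrix.vecMul_transpose]

theorem eq_adj {M M' : Matrix ι ι F} (h : ∀ u v, gramForm G (M *ᵥ u) v = gramForm G u (M' *ᵥ v)) :
    M' = adj G M := by
  refine Matrix.ext_of_mulVec_single fun j => ?_
  by_contra hne
  obtain ⟨x, hx⟩ := (hG.isSymmetric.nondegenerate _ (sub_ne_zero.mpr hne)).1
  apply hx
  rw [gramForm, Matrix.mulVec_sub, dotProduct_sub, sub_eq_zero]
  exact (h x _).symm.trans (gramForm_adj hG M x _)

theorem adj_one : adj G 1 = 1 := by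
  rw [adj, Matrix.transpose_one, mul_one, Matrix.nonsing_inv_mul _ hG.unit]

theorem adj_add (M N : Matrix ι ι F) : adj G (M + N) = adj G M + adj G N := by
  simp [adj, Matrix.mul_add, Matrix.add_mul]

theorem adj_sub (M N : Matrix ι ι F) : adj G (M - N) = adj G M - adj G N := by
  simp [adj, Matrix.mul_sub, Matrix.sub_mul]

theorem adj_zero : adj G 0 = 0 := by simp [adj]

theorem adj_smul (c : F) (M : Matrix ι ι F) : adj G (c • M) = c • adj G M := by
  simp [adj]

theorem adj_mul (M N : Matrix ι ι F) : adj G (M * N) = adj G N * adj G M := by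
  simp only [adj, Matrix.transpose_mul, mul_assoc]
  rw [Matrix.mul_nonsing_inv_cancel_left _ _ hG.unit]

theorem adj_adj (M : Matrix ι ι F) : adj G (adj G M) = M := by
  simp only [adj, Matrix.transpose_mul, Matrix.transpose_transpose, Matrix.transpose_nonsing_inv, hG.symm,
    mul_assoc]
  rw [Matrix.nonsing_inv_mul _ hG.unit, mul_one, Matrix.nonsing_inv_mul_cancel_left _ _ hG.unit]

theorem adj_isom {g : GL ι F} (hg : g ∈ Isom G) : adj G (g : Matrix ι ι F) = ((g⁻¹ : GL ι F) : Matrix ι ι F) := by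
  rw [adj, mul_assoc]
  calc G⁻¹ * ((g : Matrix ι ι F)ᵀ * G)
      = G⁻¹ * ((g : Matrix ι ι F)ᵀ * G * (g : Matrix ι ι F)) * ((g⁻¹ : GL ι F) : Matrix ι ι F) := by
        simp [mul_assoc]
    _ = _ := by rw [mem_isom.mp hg, Matrix.nonsing_inv_mul _ hG.unit, one_mul]

theorem adj_conj {g : GL ι F} (hg : g ∈ Isom G) (M : Matrix ι ι F) :
    adj G ((g : Matrix ι ι F) * M * ((g⁻¹ : GL ι F) : Matrix ι ι F))
      = (g : Matrix ι ι F) * adj G M * ((g⁻¹ : GL ι F) : Matrix ι ι F) := by
  rw [adj_mul hG, adj_mul hG, adj_isom hG hg, adj_isom hG (inv_mem hg), inv_inv, mul_assoc]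

theorem adj_mem_algOf {N : Subgroup (GL ι F)} (hN : N ≤ Isom G) {M : Matrix ι ι F} (hM : M ∈ algOf N) :
    adj G M ∈ algOf N := by
  induction hM using Algebra.adjoin_induction with
  | mem x hx =>
    obtain ⟨g, hg, rfl⟩ := mem_matrixSet.mp hx
    rw [adj_isom hG (hN hg)]
    exact Algebra.subset_adjoin (mem_matrixSet.mpr ⟨g⁻¹, inv_mem hg, rfl⟩)
  | algebraMap r =>
    rw [Algebra.algebraMap_eq_smul_one, adj_smul hG, adj_one hG, ← Algebra.algebraMap_eq_smul_one]
    exact Subalgebra.algebraMap_mem _ r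
  | add x y _ _ hx hy => rw [adj_add hG]; exact add_mem hx hy
  | mul x y _ _ hx hy => rw [adj_mul hG]; exact mul_mem hy hx

theorem adj_mem_commutant {N : Subgroup (GL ι F)} (hN : N ≤ Isom G) {M : Matrix ι ι F} (hM : M ∈ commutant N) :
    adj G M ∈ commutant N := by
  rw [mem_commutant]
  intro x hx
  have h := congrArg (adj G) (mem_commutant.mp hM x⁻¹ (inv_mem hx))
  rw [adj_mul hG, adj_mul hG, adj_isom hG (hN (inv_mem hx)), inv_inv] at h
  exact h.symm

theorem adj_mem_centre {N : Subgroup (GL ι F)} (hN : N ≤ Isom G) {M : Matrix ι ι F} (hM : M ∈ centre N) :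
    adj G M ∈ centre N := by
  rw [mem_centre] at hM ⊢
  refine ⟨adj_mem_commutant hG hN hM.1, fun c hc => ?_⟩
  have h := congrArg (adj G) (hM.2 _ (adj_mem_commutant hG hN hc))
  rw [adj_mul hG, adj_mul hG, adj_adj hG] at h
  exact h.symm

/-- An invariant bilinear form of an absolutely irreducible group of isometries is a multiple of the given one. -/
theorem invariant_unique {N : Subgroup (GL ι F)} (hN : N ≤ Isom G) (habs : ActsAbsolutelyIrreducibly (matrixSet N))
    {X : Matrix ι ι F} (hX : ∀ x ∈ N, (x : Matrix ι ι F)ᵀ * X * (x : Matrix ι ι F) = X) :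
    ∃ c : F, X = c • G := by
  obtain ⟨c, hc⟩ := habs.2 (G⁻¹ * X) (fun s hs => by
    obtain ⟨x, hx, rfl⟩ := mem_matrixSet.mp hs
    have h1 : (x : Matrix ι ι F)ᵀ = G * ((x⁻¹ : GL ι F) : Matrix ι ι F) * G⁻¹ := by
      rw [← adj_isom hG (hN hx), adj, mul_assoc G⁻¹, Matrix.mul_nonsing_inv_cancel_left _ _ hG.unit,
        Matrix.mul_nonsing_inv_cancel_right _ _ hG.unit]
    calc G⁻¹ * X * (x : Matrix ι ι F)
        = (x : Matrix ι ι F) * (G⁻¹ * G * ((x⁻¹ : GL ι F) : Matrix ι ι F) * G⁻¹ * X * (x : Matrix ι ι F)) := by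
          simp [Matrix.nonsing_inv_mul _ hG.unit, ← mul_assoc]
      _ = (x : Matrix ι ι F) * (G⁻¹ * ((x : Matrix ι ι F)ᵀ * X * (x : Matrix ι ι F))) := by
          rw [h1]; simp only [mul_assoc]
      _ = _ := by rw [hX x hx])
  refine ⟨c, ?_⟩
  have := congrArg (fun T => G * T) hc
  simpa [Matrix.mul_nonsing_inv_cancel_left _ _ hG.unit] using this

/-- A change of basis realising an absolutely irreducible group over a subfield carries a multiple of the form. -/
theorem rational_structure [Fintype F] [Nonempty ι] {N : Subgroup (GL ι F)} (hN : N ≤ Isom G)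
    (habs : ActsAbsolutelyIrreducibly (matrixSet N)) {F₀ : Subfield F} {B : GL ι F}
    (hB : ∀ s ∈ N, ∀ i j, ((B : Matrix ι ι F) * (s : Matrix ι ι F) * ((B⁻¹ : GL ι F) : Matrix ι ι F)) i j ∈ F₀)
    {F₁ : Subfield F} (hle : F₀ ≤ F₁) :
    ∃ ζ : F, ζ ≠ 0 ∧ IsFormRationalStructure (gramForm G) F₁ ζ B⁻¹ := by
  classical
  obtain ⟨p, f, _, _, hf, hF⟩ := exists_char_card (F := F)
  obtain ⟨e, he, hdvd, hcard, rfl⟩ := card_subfield F₀ hF
  set σ : F →+* F := frob p e with hσ
  set P := ((B⁻¹ : GL ι F) : Matrix ι ι F) with hP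
  set G' := Pᵀ * G * P with hG'
  set Z : Matrix ι ι F := (B : Matrix ι ι F) with hZ
  have hinv : ∀ x ∈ N, (x : Matrix ι ι F)ᵀ * (Zᵀ * G'.map σ * Z) * (x : Matrix ι ι F) = Zᵀ * G'.map σ * Z := by
    intro x hx
    set y := Z * (x : Matrix ι ι F) * P with hy
    have hyfix : y.map σ = y := by
      ext i j
      rw [Matrix.map_apply, hσ, frob_apply]
      exact mem_fixedField.mp (hB x hx i j)
    have hyG : yᵀ * G' * y = G' := by
      calc yᵀ * G' * y = Pᵀ * ((x : Matrix ι ι F)ᵀ * ((P * Z)ᵀ * G * (P * Z)) * (x : Matrix ι ι F)) * P := by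
            simp only [hy, hG', Matrix.transpose_mul, mul_assoc]
        _ = G' := by rw [hP, hZ, Units.inv_mul, Matrix.transpose_one, one_mul, mul_one, mem_isom.mp (hN hx)]
    have hys : yᵀ * G'.map σ * y = G'.map σ := by
      have h2 := congrArg (fun T : Matrix ι ι F => T.map σ) hyG
      simp only [Matrix.map_mul] at h2
      rwa [Matrix.transpose_map, hyfix] at h2
    have hyZ : y * Z = Z * (x : Matrix ι ι F) := by rw [hy, hP, hZ, mul_assoc _ _ (B : Matrix ι ι F), Units.inv_mul, mul_one]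
    calc (x : Matrix ι ι F)ᵀ * (Zᵀ * G'.map σ * Z) * (x : Matrix ι ι F)
        = (Z * (x : Matrix ι ι F))ᵀ * G'.map σ * (Z * (x : Matrix ι ι F)) := by
          simp only [Matrix.transpose_mul, mul_assoc]
      _ = Zᵀ * (yᵀ * G'.map σ * y) * Z := by rw [← hyZ]; simp only [Matrix.transpose_mul, mul_assoc]
      _ = _ := by rw [hys]
  obtain ⟨c, hc⟩ := invariant_unique hG hN habs hinv
  have hZP : Z * P = 1 := by rw [hZ, hP, Units.mul_inv]
  have hc' : G'.map σ = c • G' := by
    calc G'.map σ = (Z * P)ᵀ * G'.map σ * (Z * P) := by rw [hZP, Matrix.transpose_one, one_mul, mul_one]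
      _ = Pᵀ * (Zᵀ * G'.map σ * Z) * P := by simp only [Matrix.transpose_mul, mul_assoc]
      _ = c • G' := by rw [hc, Matrix.mul_smul, Matrix.smul_mul]
  have hG'0 : G'.det ≠ 0 := by
    have hPd : P.det ≠ 0 := ((Matrix.isUnit_iff_isUnit_det _).mp (B⁻¹).isUnit).ne_zero
    rw [hG', Matrix.det_mul, Matrix.det_mul, Matrix.det_transpose]
    exact mul_ne_zero (mul_ne_zero hPd hG.det_ne) hPd
  obtain ⟨i₀, j₀, hne⟩ : ∃ i j, G' i j ≠ 0 := by
    by_contra! h
    exact hG'0 (by rw [show G' = 0 from Matrix.ext h, Matrix.det_zero])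
  refine ⟨(G' i₀ j₀)⁻¹, inv_ne_zero hne, fun u v hu hv => ?_⟩
  have hent : ∀ i j, (G' i₀ j₀)⁻¹ * G' i j ∈ F₁ := by
    intro i j
    apply hle
    have h1 : ∀ a b, σ (G' a b) = c * G' a b := fun a b => congrFun (congrFun hc' a) b
    have hc0 : c ≠ 0 := fun h0 => hne ((map_eq_zero σ).mp (by rw [h1, h0, zero_mul]))
    rw [mem_fixedField, ← frob_apply, ← hσ, map_mul, map_inv₀, h1, h1]
    field_simp
  rw [gramForm_apply, ← hP, ← hG', gramForm, dotProduct, Finset.mul_sum]
  refine Subfield.sum_mem _ fun i _ => ?_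
  rw [Matrix.mulVec, dotProduct, Finset.mul_sum, Finset.mul_sum]
  refine Subfield.sum_mem _ fun j _ => ?_
  rw [show (G' i₀ j₀)⁻¹ * (u i * (G' i j * v j)) = u i * ((G' i₀ j₀)⁻¹ * G' i j) * v j by ring]
  exact mul_mem (mul_mem (hu i) (hent i j)) (hv j)

/-- An absolutely irreducible group fixing a unitary form as well is realisable over a proper subfield. -/
theorem realisable_of_unitary [Fintype F] [Nonempty ι] {N : Subgroup (GL ι F)} (hN : N ≤ Isom G)
    (habs : ActsAbsolutelyIrreducibly (matrixSet N)) {σ : F ≃+* F} {f : (ι → F) → (ι → F) → F}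
    (hf : IsUnitaryForm σ f) (hfix : FixesForm (matrixSet N) f) :
    ∃ F₀ : Subfield F, F₀ ≠ ⊤ ∧ RealisableOver F₀ (matrixSet N) := by
  classical
  let S : Subfield F := (σ : F →+* F).eqLocusField (RingHom.id F)
  have hS : ∀ x, x ∈ S ↔ σ x = x := fun _ => Iff.rfl
  obtain ⟨μ, hμ⟩ : ∃ μ, σ μ ≠ μ := by
    by_contra! h
    exact hf.ne_refl (RingEquiv.ext h)
  have hδ : μ - σ μ ≠ 0 := sub_ne_zero.mpr (Ne.symm hμ)
  have hSne : S ≠ ⊤ := fun h => hμ ((hS μ).mp (h ▸ Subfield.mem_top μ))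
  -- the field is two-dimensional over the fixed field
  have hb : ∀ x : F, (x - σ x) / (μ - σ μ) ∈ S := fun x => by
    rw [hS, map_div₀, map_sub, map_sub, hf.involutive, hf.involutive, ← neg_sub x, ← neg_sub μ, neg_div_neg_eq]
  have ha : ∀ x : F, x - (x - σ x) / (μ - σ μ) * μ ∈ S := fun x => by
    rw [hS, map_sub, map_mul, (hS _).mp (hb x)]
    field_simp
    ring
  letI : Fintype S := Fintype.ofFinite S
  have hcardF : Fintype.card F = Fintype.card S ^ 2 := by
    rw [sq, ← Fintype.card_prod]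
    refine (Fintype.card_congr (Equiv.ofBijective (fun t : S × S => (t.1 : F) + (t.2 : F) * μ) ⟨?_, ?_⟩)).symm
    · rintro ⟨a, b⟩ ⟨a', b'⟩ h
      simp only at h
      have h2 := congrArg σ h
      rw [map_add, map_add, map_mul, map_mul, (hS _).mp a.2, (hS _).mp b.2, (hS _).mp a'.2, (hS _).mp b'.2] at h2
      have hb' : (b : F) = b' := mul_right_cancel₀ hδ (by linear_combination h - h2)
      exact Prod.ext (Subtype.ext (by linear_combination h + (-μ) * hb')) (Subtype.ext hb')
    · intro x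
      exact ⟨(⟨_, ha x⟩, ⟨_, hb x⟩), by simp⟩
  set q := Fintype.card S with hq
  have hfixq : ∀ x ∈ S, x ^ q = x := fun x hx => congrArg Subtype.val (FiniteField.pow_card (⟨x, hx⟩ : S))
  have hσq : ∀ x, σ x = x ^ q := by
    have hμq : μ ^ q = σ μ := by
      have hs : μ + σ μ ∈ S := by rw [hS, map_add, hf.involutive, add_comm]
      have hp : μ * σ μ ∈ S := by rw [hS, map_mul, hf.involutive, mul_comm]
      have h1 : (μ ^ q - μ) * (μ ^ q - σ μ) = 0 := by
        have e1 : μ * μ - (μ + σ μ) * μ + μ * σ μ = 0 := by ring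
        have e2 := congrArg (fun t => conj hcardF t) e1
        simp only [map_add, map_sub, map_mul, map_zero, conj_apply] at e2
        rw [← mul_pow μ (σ μ), hfixq _ hp, ← add_pow_q hcardF, hfixq _ hs] at e2
        linear_combination e2
      rcases mul_eq_zero.mp h1 with h | h
      · exfalso
        have hall : ∀ x : F, x ^ q = x := fun x => by
          have hx : x = (x - (x - σ x) / (μ - σ μ) * μ) + (x - σ x) / (μ - σ μ) * μ := by ring
          rw [hx, add_pow_q hcardF, mul_pow, hfixq _ (ha x), hfixq _ (hb x), sub_eq_zero.mp h]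
        have hle := card_pow_eq_self_le (F := F) (k := q) (one_lt_q hcardF)
        rw [Nat.card_congr (Equiv.subtypeUnivEquiv hall), Nat.card_eq_fintype_card, hcardF] at hle
        have := one_lt_q hcardF
        nlinarith
      · exact sub_eq_zero.mp h
    intro x
    have hx : x = (x - (x - σ x) / (μ - σ μ) * μ) + (x - σ x) / (μ - σ μ) * μ := by ring
    conv_lhs => rw [hx]
    conv_rhs => rw [hx]
    rw [add_pow_q hcardF, mul_pow, hfixq _ (ha x), hfixq _ (hb x), hμq, map_add, map_mul, (hS _).mp (ha x),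
      (hS _).mp (hb x)]
  -- the intertwiner
  set X := gramMatrix f with hX
  set s : F →+* F := (σ : F →+* F) with hsdef
  have hsesq := isSesqui_of_unitary hf
  have hXu : IsUnit X.det := isUnit_iff_ne_zero.mpr (hsesq.det_ne_zero σ.bijective hf.nondegenerate)
  set A := X⁻¹ * G with hA
  have hA0 : A.det ≠ 0 := by
    rw [hA, Matrix.det_mul]
    exact mul_ne_zero ((Matrix.isUnit_nonsing_inv_det _ hXu).ne_zero) hG.det_ne
  have hσA : ∀ x ∈ N, x.val.map s * A = A * x.val := by
    intro x hx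
    have h1 : x.valᵀ * X * x.val.map s = X := by
      have h0 := (hsesq.scale_iff x.val 1).mp fun u v => by
        rw [one_mul]; exact hfix _ (mem_matrixSet.mpr ⟨x, hx, rfl⟩) u v
      rwa [one_smul] at h0
    have h2 : x.val.map s = X⁻¹ * ((x⁻¹ : GL ι F) : Matrix ι ι F)ᵀ * X := by
      calc x.val.map s = X⁻¹ * (((x⁻¹ : GL ι F) : Matrix ι ι F)ᵀ * (x.valᵀ * X * x.val.map s)) := by
            rw [← mul_assoc _ (x.valᵀ * X), ← mul_assoc _ x.valᵀ, ← Matrix.transpose_mul, Units.mul_inv,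
              Matrix.transpose_one, one_mul, Matrix.nonsing_inv_mul_cancel_left _ _ hXu]
        _ = _ := by rw [h1, mul_assoc]
    have h3 : ((x⁻¹ : GL ι F) : Matrix ι ι F)ᵀ * G = G * x.val := by
      conv_rhs => rw [← one_mul G, ← Matrix.transpose_one, ← Units.mul_inv x, Matrix.transpose_mul]
      rw [mul_assoc, mul_assoc]
      congr 1
      rw [← mul_assoc]
      exact (mem_isom.mp (hN hx)).symm
    rw [h2, hA, mul_assoc, Matrix.mul_nonsing_inv_cancel_left _ _ hXu, mul_assoc, h3, mul_assoc]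
  exact descend (q := q) hcardF (fun x => hσq x) hSne habs hA0 hσA

end adjoint

end Cfsg.Agent.Lib.AschbacherOrth
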