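import Cfsg.Agent.Lib.AschbacherOrth.Tensor

/-!
Tensor powers compatible with a symmetric matrix in odd characteristic.
-/

set_option autoImplicit false
set_option linter.style.haveILetI false
set_option linter.unusedSectionVars false

namespace Cfsg.Agent.Lib.AschbacherOrth

open Cfsg.Geo Cfsg.Agent.Lib.PrimeDim.Basic Cfsg.Agent.Lib.Aschbacher
open Cfsg.Agent.Lib.AschbacherSp (Isom mem_isom gramForm_apply_isom gramForm_single gramForm_ext adj gramIn toX
  gramForm_in toX_mk mk_toX gramForm_toX toX_coord gramMatrix_gramForm two_ne_zero' eq_zero_of_two_mul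
  comm_tens scalar_of_comm_factors tens_smul tens_inv exists_conj_of_mul injL_transpose central_scalar)
open scoped Matrix MatrixGroups Kronecker

variable {ι : Type} [Fintype ι] [DecidableEq ι] {F : Type*} [Field F] [Fintype F]
variable {m k : ℕ} {G : Matrix ι ι F}

local notation "Small" => Matrix (Fin m) (Fin m) F
local notation "Idx" => (Fin k → Fin m)

/-- Factors stable under adjoints and transitively conjugated give class seven. -/
theorem wreath_case [Nonempty ι] (hG : Sym G) (hodd : Odd (Fintype.card F)) {H N : Subgroup (GL ι F)} (hH : H ≤ Isom G) (hN : N ≤ Isom G)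
    (hm : 2 ≤ m) (hk : 2 ≤ k) {ε : ι ≃ (Fin k → Fin m)} {P : GL ι F} {T : Fin k → Subgroup (GL ι F)}
    (hle : H ≤ tensorWreathSubgroup m k ε P) (hT : ∀ i, T i ≤ N ∧ ⁅T i, T i⁆ = T i ∧ ¬ T i ≤ scalars ι F)
    (halg : ∀ i M, M ∈ algOf (T i) ↔ ∃ A, coordAlg ε P (injL i A) = M)
    (htr : ∀ i j, ∃ g ∈ H, ∀ x ∈ T i, g * x * g⁻¹ ∈ T j) : InGeometric G H := by
  classical
  have hm0 : 0 < m := by omega
  haveI : Nonempty (Fin m) := ⟨⟨0, hm0⟩⟩
  set G' := gramIn G ε P with hG'
  have hG'a : Sym G' := gramIn_sym hG ε P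
  have hadj : ∀ i A, ∃ A', adj G' (injL i A) = injL i A' := by
    intro i A
    obtain ⟨A', hA'⟩ := (halg i _).mp (adj_mem_algOf hG ((hT i).1.trans hN) ((halg i _).mpr ⟨A, rfl⟩))
    rw [adj_coord hG] at hA'
    exact ⟨A', ((coordAlg ε P).injective hA').symm⟩
  choose φ hφ using hadj
  have hinj := fun i => injL_injective (F := F) hm0 (k := k) i
  -- the adjoint on a factor
  let ψ : Fin k → Small →ₗ[F] Small := fun i =>
    { toFun := fun A => φ i Aᵀ
      map_add' := fun A B => hinj i (by
        rw [map_add, ← hφ, ← hφ, ← hφ, Matrix.transpose_add, map_add, adj_add hG'a])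
      map_smul' := fun c A => hinj i (by
        rw [RingHom.id_apply, map_smul, ← hφ, ← hφ, Matrix.transpose_smul, map_smul, adj_smul hG'a]) }
  have hψ : ∀ i A, injL i (ψ i A) = adj G' (injL i Aᵀ) := fun i A => (hφ i Aᵀ).symm
  have hexA := fun i => exists_conj_of_mul hm0 (ψ i) (fun A B => hinj i (by
    rw [hψ, injL_mul, hψ, hψ, Matrix.transpose_mul, injL_mul, adj_mul hG'a]))
    (hinj i (by rw [hψ, Matrix.transpose_one, injL_one, adj_one hG'a]))
  choose L hL using hexA
  let K : Fin k → GL (Fin m) F := fun i => (L i)⁻¹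
  have hrel : ∀ i A, Aᵀ * (K i : Small) = (K i : Small) * φ i A := by
    intro i A
    have := hL i Aᵀ
    rw [show ψ i Aᵀ = φ i A from by simp [ψ]] at this
    rw [this]
    simp [K, mul_assoc]
  set TK := tens (fun i => (K i : Small)) with hTK
  set TL := tens (fun i => (L i : Small)) with hTL
  have hKL : TK * TL = 1 := by
    rw [hTK, hTL, tens_mul, ← tens_one]; congr 1; funext i; simp [K]
  have hLK : TL * TK = 1 := by
    rw [hTK, hTL, tens_mul, ← tens_one]; congr 1; funext i; simp [K]
  have hrelG : ∀ i A, (injL i A)ᵀ * G' = G' * injL i (φ i A) := fun i A => by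
    rw [← hφ, adj, mul_assoc G'⁻¹, Matrix.mul_nonsing_inv_cancel_left _ _ hG'a.unit]
  have hrelT : ∀ i A, (injL i A)ᵀ * TK = TK * injL i (φ i A) := fun i A => by
    rw [injL_transpose, injL_apply, injL_apply, hTK, tens_mul, tens_mul]
    congr 1
    funext j
    rcases eq_or_ne j i with rfl | h
    · simp [hrel]
    · simp [Function.update_of_ne h]
  obtain ⟨c, hc⟩ := scalar_of_comm_factors (M := G' * TL) fun i A => by
    have h1 := hrelT i Aᵀ
    have h2 := hrelG i Aᵀ
    rw [injL_transpose, Matrix.transpose_transpose] at h1 h2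
    calc G' * TL * injL i A = G' * (TL * (injL i A * TK) * TL) := by
          rw [mul_assoc TL, mul_assoc (injL i A), hKL, mul_one, mul_assoc]
      _ = G' * (injL i (φ i Aᵀ) * TL) := by rw [h1, ← mul_assoc TL, hLK, one_mul]
      _ = injL i A * (G' * TL) := by rw [← mul_assoc, ← h2, mul_assoc]
  have hG'eq : G' = c • TK := by
    calc G' = G' * TL * TK := by rw [mul_assoc, hLK, mul_one]
      _ = _ := by rw [hc, Matrix.smul_mul, one_mul]
  have hc0 : c ≠ 0 := fun h => hG'a.det_ne (by
    haveI : Nonempty Idx := ⟨fun _ => ⟨0, hm0⟩⟩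
    rw [hG'eq, h, zero_smul, Matrix.det_zero])
  -- transport of the factors
  let i₀ : Fin k := ⟨0, by omega⟩
  set K₀ := (K i₀ : Small) with hK₀
  have hsim : ∀ j, ∃ (S : GL (Fin m) F) (d : F), d ≠ 0 ∧ (S : Small)ᵀ * (K j : Small) * (S : Small) = d • K₀ := by
    intro j
    obtain ⟨g, hg, hgT⟩ := htr i₀ j
    set g' := (coordGL ε P).symm g with hg'
    have hmap : ∀ A, ∃ B, (g' : Matrix Idx Idx F) * injL i₀ A * ((g'⁻¹ : GL Idx F) : Matrix Idx Idx F) = injL j B := by
      intro A
      obtain ⟨B, hB⟩ := (halg j _).mp (conj_mem_algOf hgT ((halg i₀ _).mpr ⟨A, rfl⟩))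
      refine ⟨B, (coordAlg ε P).injective ?_⟩
      rw [hg', coordGL_symm_conj, hB]
    choose B hB using hmap
    let β : Small →ₗ[F] Small :=
      { toFun := B
        map_add' := fun A A' => hinj j (by rw [map_add, ← hB, ← hB, ← hB, map_add, mul_add, add_mul])
        map_smul' := fun a A => hinj j (by
          rw [RingHom.id_apply, map_smul, ← hB, ← hB, map_smul, Matrix.mul_smul, Matrix.smul_mul]) }
    obtain ⟨S, hS⟩ := exists_conj_of_mul hm0 β
      (fun A A' => hinj j (by
        show injL j (B (A * A')) = injL j (B A * B A')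
        rw [injL_mul, ← hB, ← hB, ← hB, injL_mul]
        simp [mul_assoc]))
      (hinj j (by show injL j (B 1) = _; rw [← hB, injL_one, mul_one, Units.mul_inv, injL_one]))
    have hcomm : ∀ A, φ j (B A) = B (φ i₀ A) := fun A => hinj j (by
      rw [← hφ, ← hB, adj_conj hG'a (symm_isom (hH hg) ε P), hφ, hB])
    -- `Sᵀ K_j S K₀⁻¹` is central
    have key : ∀ A : Small, (S : Small)ᵀ * (K j : Small) * (S : Small) * (L i₀ : Small) * Aᵀ =
        Aᵀ * ((S : Small)ᵀ * (K j : Small) * (S : Small) * (L i₀ : Small)) := by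
      intro A
      have e1 : φ j (B A) = (S : Small) * φ i₀ A * ((S⁻¹ : GL (Fin m) F) : Small) := by rw [hcomm]; exact hS _
      have e2 := hrel j (B A)
      rw [e1, show B A = (S : Small) * A * ((S⁻¹ : GL (Fin m) F) : Small) from hS A, Matrix.transpose_mul,
        Matrix.transpose_mul] at e2
      have e3 := congrArg (fun M => (S : Small)ᵀ * M * (S : Small)) e2
      rw [show (S : Small)ᵀ * (((S⁻¹ : GL (Fin m) F) : Small)ᵀ * (Aᵀ * (S : Small)ᵀ) * (K j : Small)) * (S : Small) =
        ((S : Small)ᵀ * ((S⁻¹ : GL (Fin m) F) : Small)ᵀ) * (Aᵀ * ((S : Small)ᵀ * (K j : Small) * (S : Small))) by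
          simp [mul_assoc],
        ← Matrix.transpose_mul, Units.inv_mul, Matrix.transpose_one, one_mul] at e3
      have e4 : φ i₀ A = (L i₀ : Small) * Aᵀ * (K i₀ : Small) := by
        have := hL i₀ Aᵀ
        rw [show ψ i₀ Aᵀ = φ i₀ A from by simp [ψ]] at this
        exact this
      rw [e4] at e3
      calc (S : Small)ᵀ * (K j : Small) * (S : Small) * (L i₀ : Small) * Aᵀ
          = (S : Small)ᵀ * ((K j : Small) * ((S : Small) * ((L i₀ : Small) * Aᵀ * (K i₀ : Small)) *
              ((S⁻¹ : GL (Fin m) F) : Small))) * (S : Small) * (L i₀ : Small) := by simp [K, mul_assoc]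
        _ = _ := by rw [← e3]; simp [mul_assoc]
    obtain ⟨d, hd⟩ := central_scalar (M := (S : Small)ᵀ * (K j : Small) * (S : Small) * (L i₀ : Small)) fun A => by
      have := key Aᵀ
      rwa [Matrix.transpose_transpose] at this
    have hd' : (S : Small)ᵀ * (K j : Small) * (S : Small) = d • K₀ := by
      calc (S : Small)ᵀ * (K j : Small) * (S : Small)
          = (S : Small)ᵀ * (K j : Small) * (S : Small) * (L i₀ : Small) * (K i₀ : Small) := by simp [K, mul_assoc]
        _ = _ := by rw [hd, Matrix.smul_mul, one_mul]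
    refine ⟨S, d, fun h0 => ?_, hd'⟩
    have hdet : ((S : Small)ᵀ * (K j : Small) * (S : Small)).det ≠ 0 := by
      rw [Matrix.det_mul, Matrix.det_mul, Matrix.det_transpose]
      have hS0 := ((Matrix.isUnit_iff_isUnit_det _).mp S.isUnit).ne_zero
      exact mul_ne_zero (mul_ne_zero hS0 ((Matrix.isUnit_iff_isUnit_det _).mp (K j).isUnit).ne_zero) hS0
    rw [hd', h0, zero_smul, Matrix.det_zero] at hdet
    exact hdet rfl
  choose S d hd0 hS using hsim
  -- new coordinates
  let Sg : GL Idx F := ⟨tens fun i => (S i : Small), tens fun i => (((S i)⁻¹ : GL (Fin m) F) : Small), tens_inv S, by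
    have := tens_inv (fun i => (S i)⁻¹)
    simpa using this⟩
  let P' : GL ι F := P * glReindex ε.symm Sg
  set c' := c * ∏ i, d i with hc'
  have hc'0 : c' ≠ 0 := mul_ne_zero hc0 (Finset.prod_ne_zero_iff.mpr fun i _ => hd0 i)
  have hgram : gramIn G ε P' = c' • tens (fun _ : Fin k => K₀) := by
    have e1 : gramIn G ε P' = (Sg : Matrix Idx Idx F)ᵀ * G' * (Sg : Matrix Idx Idx F) := by
      refine gramForm_ext fun x y => ?_
      rw [← gramForm_in, ← gramForm_apply, ← gramForm_in]
      have hx : ∀ x : Idx → F, (P' : Matrix ι ι F) *ᵥ (x ∘ ε) =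
          (P : Matrix ι ι F) *ᵥ (((Sg : Matrix Idx Idx F) *ᵥ x) ∘ ε) := fun x => by
        rw [show (P' : Matrix ι ι F) = (P : Matrix ι ι F) *
          (Sg : Matrix Idx Idx F).submatrix ε ε from rfl, ← Matrix.mulVec_mulVec, Matrix.submatrix_mulVec_equiv]
        congr 2
        rw [show (x ∘ ε) ∘ ε.symm = x from funext fun z => by simp]
      rw [hx, hx]
    rw [e1, hG'eq, Matrix.mul_smul, Matrix.smul_mul, hTK]
    show c • ((tens fun i => (S i : Small))ᵀ * tens (fun i => (K i : Small)) * tens fun i => (S i : Small)) = _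
    rw [tens_transpose, tens_mul, tens_mul]
    simp only [hS]
    rw [tens_smul, smul_smul]
  have hP' : tensorWreathSubgroup m k ε P ≤ tensorWreathSubgroup m k ε P' := by
    rintro _ ⟨_, ⟨g, hg, rfl⟩, rfl⟩
    have hSg : Sg ∈ tensorWreathStandard m k F := Subgroup.subset_closure (Or.inl ⟨S, fun x y => rfl⟩)
    refine ⟨_, ⟨Sg⁻¹ * g * Sg, mul_mem (mul_mem (inv_mem hSg) hg) hSg, rfl⟩, ?_⟩
    simp [P', mul_assoc]
  have hle' : H ≤ tensorWreathSubgroup m k ε P' := hle.trans hP'
  have hA' : Sym (gramIn G ε P') := gramIn_sym hG ε P'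
  have hK0u : K₀.det ≠ 0 := ((Matrix.isUnit_iff_isUnit_det _).mp (K i₀).isUnit).ne_zero
  obtain ⟨a₁, b₁, hab⟩ : ∃ a b, K₀ a b ≠ 0 := by
    by_contra! hc2
    exact hK0u (by rw [show K₀ = 0 from Matrix.ext hc2, Matrix.det_zero])
  -- symmetry of the common factor
  have hent : ∀ x y : Idx, (∏ i, K₀ (y i) (x i)) = ∏ i, K₀ (x i) (y i) := by
    intro x y
    have h := congrFun (congrFun hA'.symm x) y
    rw [hgram, Matrix.transpose_apply, Matrix.smul_apply, Matrix.smul_apply, tens_apply, tens_apply,
      smul_eq_mul, smul_eq_mul] at h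
    exact mul_left_cancel₀ hc'0 h
  have hne : K₀ b₁ a₁ ≠ 0 := fun h0 => by
    have h := hent (fun _ => a₁) (fun _ => b₁)
    simp only [Finset.prod_const, h0, Finset.card_univ, Fintype.card_fin] at h
    rw [zero_pow (by omega : k ≠ 0), eq_comm] at h
    exact pow_ne_zero _ hab h
  set s : F := K₀ b₁ a₁ / K₀ a₁ b₁ with hs
  have hsK : K₀ᵀ = s • K₀ := by
    ext a b
    have h := hent (Function.update (fun _ => a₁) i₀ a) (Function.update (fun _ => b₁) i₀ b)
    have h1 := hent (fun _ => a₁) (fun _ => b₁)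
    rw [← Finset.mul_prod_erase _ _ (Finset.mem_univ i₀), ← Finset.mul_prod_erase _ _ (Finset.mem_univ i₀)] at h h1
    have hp : ∀ (u v : Fin m), (∏ j ∈ Finset.univ.erase i₀,
        K₀ (Function.update (fun _ => u) i₀ (a) j) (Function.update (fun _ => v) i₀ b j)) =
        ∏ j ∈ Finset.univ.erase i₀, K₀ u v := fun u v =>
      Finset.prod_congr rfl fun j hj => by
        rw [Function.update_of_ne (Finset.ne_of_mem_erase hj), Function.update_of_ne (Finset.ne_of_mem_erase hj)]
    have hp' : (∏ j ∈ Finset.univ.erase i₀,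
        K₀ (Function.update (fun _ => b₁) i₀ b j) (Function.update (fun _ => a₁) i₀ a j)) =
        ∏ j ∈ Finset.univ.erase i₀, K₀ b₁ a₁ :=
      Finset.prod_congr rfl fun j hj => by
        rw [Function.update_of_ne (Finset.ne_of_mem_erase hj), Function.update_of_ne (Finset.ne_of_mem_erase hj)]
    rw [hp, hp', Function.update_self, Function.update_self] at h
    set R := ∏ j ∈ Finset.univ.erase i₀, K₀ a₁ b₁ with hR
    set R' := ∏ j ∈ Finset.univ.erase i₀, K₀ b₁ a₁ with hR'
    have hR0 : R ≠ 0 := Finset.prod_ne_zero_iff.mpr fun _ _ => hab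
    have hR'0 : R' ≠ 0 := Finset.prod_ne_zero_iff.mpr fun _ _ => hne
    rw [Matrix.transpose_apply, Matrix.smul_apply, smul_eq_mul, hs]
    field_simp
    refine mul_left_cancel₀ (mul_ne_zero hR0 hR'0) ?_
    linear_combination (R * K₀ a₁ b₁) * h - (R * K₀ a b) * h1
  have hsk : s ^ k = 1 := by
    have h := hent (fun _ => a₁) (fun _ => b₁)
    simp only [Finset.prod_const, Finset.card_univ, Fintype.card_fin] at h
    rw [hs, div_pow, h, div_self (pow_ne_zero _ hab)]
  have hsq : s * s = 1 := by
    have h := congrArg Matrix.transpose hsK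
    rw [Matrix.transpose_transpose, Matrix.transpose_smul, hsK, smul_smul] at h
    have h1 := congrFun (congrFun h a₁) b₁
    rw [Matrix.smul_apply, smul_eq_mul] at h1
    exact (mul_eq_right₀ hab).mp h1.symm
  -- over the field with three elements the factors would be solvable
  have hne3 : ¬ (Fintype.card F = 3 ∧ m = 3) := by
    rintro ⟨hq, hm3⟩
    have hsym : K₀ᵀ = K₀ := by
      rcases mul_self_eq_one_iff.mp hsq with h | h
      · rw [hsK, h, one_smul]
      · exact absurd (det_eq_zero_of_skew_odd hodd (by rw [Fintype.card_fin, hm3]; decide) (by rw [hsK, h, neg_one_smul])) hK0u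
    obtain ⟨-, hperf, hns⟩ := hT i₀
    have hA : ∀ x : T i₀, ∃ A : Small,
        coordAlg ε P (injL i₀ A) = ((x : GL ι F) : Matrix ι ι F) := fun x =>
      (halg i₀ _).mp (Algebra.subset_adjoin (mem_matrixSet.mpr ⟨x, x.2, rfl⟩))
    choose A hA using hA
    have hA1 : A 1 = 1 := hinj i₀ ((coordAlg ε P).injective (by rw [hA, injL_one, map_one]; rfl))
    have hAm : ∀ x y, A (x * y) = A x * A y := fun x y =>
      hinj i₀ ((coordAlg ε P).injective (by rw [hA, injL_mul, map_mul, hA, hA]; rfl))
    let ρ : T i₀ →* Small := { toFun := A, map_one' := hA1, map_mul' := hAm }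
    have hρinj : Function.Injective ρ := fun x y h => Subtype.ext (Units.ext (by
      rw [← hA x, ← hA y, show A x = A y from h]))
    have hiso : ∀ x, (ρ x)ᵀ * K₀ * ρ x = K₀ := fun x => by
      have h2 := mem_isom.mp (symm_isom (hN ((hT i₀).1 x.2)) ε P)
      rw [show (((coordGL ε P).symm (x : GL ι F) : GL Idx F) : Matrix Idx Idx F) = injL i₀ (A x) from
          (coordAlg ε P).injective (by rw [← coordGL_val, MulEquiv.apply_symm_apply, hA]),
        ← hG', hG'eq, Matrix.mul_smul, Matrix.smul_mul] at h2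
      have h3 : (injL i₀ (A x))ᵀ * TK * injL i₀ (A x) = TK := smul_right_injective _ hc0 h2
      rw [injL_transpose, injL_apply, injL_apply, hTK, tens_mul, tens_mul] at h3
      obtain ⟨u, v, huv⟩ : ∃ u v : Idx, (∏ j ∈ Finset.univ.erase i₀, (K j : Small) (u j) (v j)) ≠ 0 := by
        have hex : ∀ j, ∃ a b, (K j : Small) a b ≠ 0 := fun j => by
          by_contra! hc2
          exact (K j).ne_zero (Matrix.ext hc2)
        choose u v huv using hex
        exact ⟨u, v, Finset.prod_ne_zero_iff.mpr fun j _ => huv j⟩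
      ext a b
      have h4 := congrFun (congrFun h3 (Function.update u i₀ a)) (Function.update v i₀ b)
      rw [tens_apply, tens_apply, ← Finset.mul_prod_erase _ _ (Finset.mem_univ i₀),
        ← Finset.mul_prod_erase _ _ (Finset.mem_univ i₀)] at h4
      simp only [Function.update_self] at h4
      refine mul_right_cancel₀ huv (Eq.trans ?_ (h4.trans ?_))
      · congr 1
        refine Finset.prod_congr rfl fun j hj => ?_
        simp [Function.update_of_ne (Finset.ne_of_mem_erase hj)]
      · congr 1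
        exact Finset.prod_congr rfl fun j hj => by simp [Function.update_of_ne (Finset.ne_of_mem_erase hj)]
    haveI := solvable_of_three' hq hm3 hsym hK0u ρ hρinj hiso
    exact hns ((subgroup_eq_bot_of_solvable hperf).trans_le bot_le)
  refine InGeometric.wreath hm hk (f₁ := gramForm K₀) ?_ hne3 ⟨c', hc'0, fun x y => ?_⟩ hle'
  · rcases mul_self_eq_one_iff.mp hsq with h | h
    · exact Or.inl (isSymmetric_gram (by rw [hsK, h, one_smul]) hK0u)
    · refine Or.inr ⟨?_, ?_⟩
      · rcases Nat.even_or_odd k with he | ho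
        · exact he
        · rw [h, ho.neg_one_pow] at hsk
          exact absurd (show (2 : F) = 0 by linear_combination -hsk) (two_ne_zero' hodd)
      · have hskew : K₀ᵀ = -K₀ := by rw [hsK, h, neg_one_smul]
        exact isSymplectic_gram hskew (gramForm_self_eq_zero hskew fun i =>
          eq_zero_of_two_mul hodd (by simpa using congrFun (congrFun hskew i) i)) hK0u
  · rw [gramForm_in, hgram, gramMatrix_gramForm, gramForm, Matrix.smul_mulVec, dotProduct_smul, smul_eq_mul]
    congr 1
    simp [dotProduct, Matrix.mulVec, tens_apply, Finset.mul_sum, mul_assoc]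

end Cfsg.Agent.Lib.AschbacherOrth
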