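import Cfsg.Agent.Lib.AschbacherOrth.Centre
import Cfsg.Agent.Lib.AschbacherOrth.Wreath
import Cfsg.Agent.Lib.AschbacherSp.WreathCoords

/-!
The structure theorem for groups of isometries of a symmetric matrix in odd characteristic.
-/

set_option autoImplicit false
set_option linter.style.haveILetI false
set_option linter.unusedSectionVars false

namespace Cfsg.Agent.Lib.AschbacherOrth

open Cfsg.Geo Cfsg.Agent.Lib.PrimeDim.Basic Cfsg.Agent.Lib.PrimeDim.Fields Cfsg.Agent.Lib.PrimeDim.Symplectic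
open Cfsg.Agent.Lib.PrimeDim.Main
open Cfsg.Agent.Lib.Aschbacher
open Cfsg.Agent.Lib.AschbacherSp (Isom mem_isom adj perfect_cases_sp)
open scoped Matrix MatrixGroups commutatorElement

variable {ι : Type} [Fintype ι] [DecidableEq ι] {F : Type*} [Field F] [Fintype F] {G : Matrix ι ι F}

/-- Absolutely irreducible isometries commuting up to scalars live in even dimension. -/
theorem even_of_scalar_commutators [Nonempty ι] (hG : Sym G) {N : Subgroup (GL ι F)} (hN : N ≤ Isom G)
    (habs : ActsAbsolutelyIrreducibly (matrixSet N)) (hc : ⁅N, N⁆ ≤ scalars ι F) (hns : ¬ N ≤ scalars ι F) :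
    Even (Fintype.card ι) := by
  by_contra hev
  have hno := Nat.not_even_iff_odd.mp hev
  refine hns fun x hx => ?_
  obtain ⟨c, hc'⟩ := habs.2 (x : Matrix ι ι F) (fun s hs => by
    obtain ⟨y, hy, rfl⟩ := mem_matrixSet.mp hs
    obtain ⟨c, -, he⟩ := Cfsg.Agent.Lib.Aschbacher.exists_factor hc hx hy
    suffices h1 : c = 1 by rw [he, h1, one_smul]
    -- the factor squares to one
    have h2 := congrArg (adj G) he
    rw [adj_mul hG, adj_smul hG, adj_mul hG, adj_isom hG (hN hx), adj_isom hG (hN hy)] at h2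
    have hne : (y : Matrix ι ι F) * (x : Matrix ι ι F) ≠ 0 := by rw [← Units.val_mul]; exact Units.ne_zero _
    have hsq : c * c = 1 := by
      have h4 := congrArg (fun T => (x : Matrix ι ι F) * (y : Matrix ι ι F) * T * ((y : Matrix ι ι F) * (x : Matrix ι ι F))) h2
      simp only [Matrix.mul_smul, Matrix.smul_mul] at h4
      simp only [mul_assoc, Units.inv_mul_cancel_left, Units.mul_inv_cancel_left, Units.inv_mul, mul_one] at h4
      rw [he, smul_smul] at h4
      exact (smul_left_injective F hne ((one_smul F _).trans h4)).symm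
    have h5 := congrArg Matrix.det he
    rw [Matrix.det_smul, Matrix.det_mul, Matrix.det_mul, mul_comm (y : Matrix ι ι F).det] at h5
    have hd : (x : Matrix ι ι F).det * (y : Matrix ι ι F).det ≠ 0 :=
      mul_ne_zero ((Matrix.isUnit_iff_isUnit_det _).mp x.isUnit).ne_zero
        ((Matrix.isUnit_iff_isUnit_det _).mp y.isUnit).ne_zero
    have h6 : c ^ Fintype.card ι = 1 := (mul_eq_right₀ hd).mp h5.symm
    obtain ⟨j, hj⟩ := hno
    rw [hj, pow_succ, pow_mul, pow_two, hsq, one_pow, one_mul] at h6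
    exact h6)
  exact (mem_scalars_iff x).mpr ⟨Units.mk0 c fun h0 => x.ne_zero (by rw [hc', h0, zero_smul]), hc'⟩

theorem of_realisable [Nonempty ι] (hG : Sym G) {H N : Subgroup (GL ι F)} (hN : N ≤ Isom G)
    (hNn : NormalizedBy H N) (habs : ActsAbsolutelyIrreducibly (matrixSet N)) {F₀ : Subfield F} (hne : F₀ ≠ ⊤)
    (hr : RealisableOver F₀ (matrixSet N)) : InGeometric G H := by
  obtain ⟨B, hB⟩ := hr
  obtain ⟨F₁, r, hrp, hle, hcard⟩ := exists_prime_index hne
  have hB' : ∀ s ∈ N, ∀ i j, ((B : Matrix ι ι F) * (s : Matrix ι ι F) * ((B⁻¹ : GL ι F) : Matrix ι ι F)) i j ∈ F₀ :=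
    fun s hs i j => hB _ (mem_matrixSet.mpr ⟨s, hs, rfl⟩) i j
  obtain ⟨ζ, hζ, hP⟩ := rational_structure hG hN habs hB' hle
  exact InGeometric.subfield hrp hcard hζ hP
    (normalizer_le_subfieldSubgroup hNn habs F₁ fun s hs i j => hle (hB' s hs i j))

/-- Aschbacher's theorem in the orthogonal case, odd characteristic. -/
theorem main (hG : Sym G) (hodd : Odd (Fintype.card F)) (h3 : 3 ≤ Fintype.card ι) (H : Subgroup (GL ι F)) (hHI : H ≤ Isom G) :
    InGeometric G H ∨ InOrthogonalResidualClass H := by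
  classical
  haveI : Nonempty ι := Fintype.card_pos_iff.mp (by omega)
  by_cases hH : Irred H
  swap
  · simp only [Irred, not_forall, not_or] at hH
    obtain ⟨W, hW, h1, h2⟩ := hH
    exact Or.inl (of_reducible hG hHI hW h1 h2)
  obtain ⟨N, ⟨hNH, hNn, hNs⟩, hNmin⟩ := WellFounded.has_min (wellFounded_lt (α := Subgroup (GL ι F)))
    {N | N ≤ H ∧ NormalizedBy H N ∧ ¬ N ≤ scalars ι F}
    ⟨H, le_rfl, fun h hh x hx => mul_mem (mul_mem hh hx) (inv_mem hh), not_le_scalars (by omega) hH⟩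
  have hN : N ≤ Isom G := hNH.trans hHI
  have hmin : ∀ M : Subgroup (GL ι F), M ≤ N → NormalizedBy H M → M ≤ scalars ι F ∨ M = N := by
    intro M hM hMn
    by_contra! hc
    exact hNmin M ⟨hM.trans hNH, hMn, hc.1⟩ (lt_of_le_of_ne hM hc.2)
  rcases centre_cases_orth hG hodd hH hHI hNn hN with hz | h
  swap
  · exact Or.inl h
  rcases exists_unitSys hH hNn hz with h | ⟨m, e, hm, he, hemem, hspan⟩
  · exact absurd h hNs
  have hder : ⁅N, N⁆ ≤ scalars ι F ∨ ⁅N, N⁆ = N :=
    hmin ⁅N, N⁆ (Subgroup.commutator_le_self N) (fun h hh => commutator_map_le (hNn h hh))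
  rcases tensor_or_abs hG hodd hHI hN hNn hNs hder hm he hemem hspan with h | habs
  · exact Or.inl h
  rcases hder with hc | hperf
  · refine Or.inl (InGeometric.scalarCommutators ?_ hc hNs hN habs (le_normalizer hNn))
    exact even_of_scalar_commutators hG hN habs hc hNs
  rcases perfect_cases_sp hNn hNs habs hperf hmin with
    ⟨hsimp, hnab⟩ | ⟨m, k, ε, P, T, hm2, hk2, hle, hT, halg, htr⟩
  rotate_left
  · exact Or.inl (wreath_case hG hodd hHI hN hm2 hk2 hle hT halg htr)
  have hcent : ∀ h ∈ H, (∀ x ∈ N, h * x * h⁻¹ * x⁻¹ ∈ scalars ι F) → h ∈ scalars ι F := by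
    intro g _ hgx
    have hc := perfect_centralizes hperf (fun z hz x => scalar_comm hz x) hgx
    obtain ⟨c, hc'⟩ := habs.2 g.val (fun s hs => by
      obtain ⟨x, hx, rfl⟩ := mem_matrixSet.mp hs
      exact congrArg Units.val (hc x hx))
    have hc0 : c ≠ 0 := by
      intro h0
      rw [h0, zero_smul] at hc'
      exact g.ne_zero hc'
    exact (mem_scalars_iff g).mpr ⟨Units.mk0 c hc0, hc'⟩
  by_cases hsub : ∃ F₀ : Subfield F, F₀ ≠ ⊤ ∧ RealisableOver F₀ (matrixSet N)
  · obtain ⟨F₀, hne, hr⟩ := hsub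
    exact Or.inl (of_realisable hG hN hNn habs hne hr)
  by_cases hU : ∃ (σ : F ≃+* F) (f : (ι → F) → (ι → F) → F), IsUnitaryForm σ f ∧ FixesForm (matrixSet N) f
  · obtain ⟨σ, f, hf, hfix⟩ := hU
    exact absurd (realisable_of_unitary hG hN habs hf hfix) hsub
  push Not at hsub
  exact Or.inr ⟨N, ⟨hNH, hNn, hperf, hsimp, hnab, hcent, habs, fun F₀ h1 h2 => hsub F₀ h1 h2⟩, hU⟩

end Cfsg.Agent.Lib.AschbacherOrth
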