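import Cfsg.Agent.Lib.AschbacherOrth.OddDim
import Cfsg.Agent.Lib.Subspaces.OrthSingular
import Cfsg.Agent.Lib.OrthStd.Models
import Cfsg.Agent.Lib.OrthOmega.Simple

/-!
The standard quadratic form in odd dimension.
-/

set_option autoImplicit false

namespace Cfsg.Agent.Lib.AschbacherOrth

open Cfsg.Geo
open scoped Matrix MatrixGroups

variable {F : Type*} [Field F] [Fintype F] (hodd : Odd (Fintype.card F)) (m : ℕ)

omit [Fintype F] in
theorem quadFormOdd_rational (F₀ : Subfield F) :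
    IsQuadFormRationalStructure (Cfsg.quadFormOdd m F) F₀ 1 := fun u hu => by
  rw [Units.val_one, Matrix.one_mulVec]
  exact add_mem (pow_mem (hu _) 2) (Subfield.sum_mem _ fun i _ => mul_mem (hu _) (hu _))

include hodd in
theorem quadFormOdd_nondeg : IsNondegenerateQuadraticForm (Cfsg.quadFormOdd m F) :=
  Cfsg.Agent.Lib.Subspaces.OrthSingular.isNondegenerateQuadraticForm_of _
    (Cfsg.Agent.Lib.OrthOmega.qOddC_nondeg m (Cfsg.Agent.Lib.OrthOmega.two_ne_zero_of_odd hodd))
    (Cfsg.Agent.Lib.OrthStd.quadFormOdd_eq m)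

omit [Fintype F] in
theorem omegaGL_le_isometryGroup {ι : Type} [Fintype ι] [DecidableEq ι] (Q : (ι → F) → F) :
    omegaGL Q ≤ Cfsg.isometryGroup F Q := by
  rintro _ ⟨x, -, rfl⟩
  exact x.2

end Cfsg.Agent.Lib.AschbacherOrth
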