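import Cfsg.Agent.Lib.AschbacherOrth.Basic
import Cfsg.Agent.Lib.AschbacherSp.Centre
import Cfsg.Agent.Lib.AschbacherSp.Wreath

/-!
The possible outcomes for a group of isometries of a symmetric matrix in odd characteristic, orthogonal complements,
and the reducible case.
-/

set_option autoImplicit false
set_option linter.style.haveILetI false
set_option linter.unusedSectionVars false

namespace Cfsg.Agent.Lib.AschbacherOrth

open Cfsg.Geo Cfsg.Agent.Lib.PrimeDim.Basic Cfsg.Agent.Lib.Aschbacher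
open Cfsg.Agent.Lib.AschbacherSp (Isom mem_isom gramForm_apply_isom gramForm_single gramForm_ext adj perp mem_perp)
open scoped Matrix MatrixGroups Kronecker

variable {ι : Type} [Fintype ι] [DecidableEq ι] {F : Type*} [Field F] [Fintype F]

/-- The geometric classes, without the residual one. -/
def InGeometric (G : Matrix ι ι F) (H : Subgroup (GL ι F)) : Prop :=
  (∃ W : Submodule F (ι → F), W ≠ ⊥ ∧ IsTotallySingularFor (gramForm G) W ∧ H ≤ subspaceStabilizer W) ∨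
  (∃ W : Submodule F (ι → F), W ≠ ⊥ ∧ W ≠ ⊤ ∧ IsNondegenerateOn (gramForm G) W ∧ H ≤ subspaceStabilizer W) ∨
  (∃ (t k : ℕ) (D : Fin t → Submodule F (ι → F)), IsNondegenerateMDecomposition (gramForm G) k D ∧
    (∀ i j, ∃ g ∈ Isom G, translate g (D i) = D j) ∧ H ≤ decompositionStabilizer D) ∨
  (∃ (k : ℕ) (D : Fin 2 → Submodule F (ι → F)), 2 * k = Fintype.card ι ∧
    IsMDecomposition k D ∧ (∀ i, IsTotallySingularFor (gramForm G) (D i)) ∧ H ≤ decompositionStabilizer D) ∨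
  (∃ (r : ℕ) (K : Subalgebra F (Matrix ι ι F)), r.Prime ∧ IsFieldSubalgebra r K ∧
    IsSelfAdjointFor (gramForm G) K ∧ H ≤ subalgebraNormalizer K) ∨
  (∃ K : Subalgebra F (Matrix ι ι F), Even (Fintype.card ι) ∧ IsFieldSubalgebra 2 K ∧
    IsAdjointClosedFor (gramForm G) K ∧ ¬ IsSelfAdjointFor (gramForm G) K ∧ H ≤ subalgebraNormalizer K) ∨
  (∃ (n₁ n₂ : ℕ) (e : ι ≃ Fin n₁ × Fin n₂) (P : GL ι F) (f₁ : (Fin n₁ → F) → (Fin n₁ → F) → F)
      (f₂ : (Fin n₂ → F) → (Fin n₂ → F) → F), 2 ≤ n₁ ∧ n₁ ≤ n₂ ∧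
      ((IsSymmetricForm f₁ ∧ IsSymmetricForm f₂) ∨ (IsSymplecticForm f₁ ∧ IsSymplecticForm f₂)) ∧
      ¬ (Fintype.card F = 3 ∧ n₁ = 3 ∧ n₂ = 3) ∧
      IsTensorFormStructure id (gramForm G) f₁ f₂ e P ∧ H ≤ tensorProductSubgroup n₁ n₂ e P) ∨
  (∃ (F₀ : Subfield F) (r : ℕ) (P : GL ι F) (ζ : F), r.Prime ∧ Fintype.card F = Nat.card F₀ ^ r ∧ ζ ≠ 0 ∧
      IsFormRationalStructure (gramForm G) F₀ ζ P ∧ H ≤ subfieldSubgroup F₀ P) ∨
  (∃ R : Subgroup (GL ι F), Even (Fintype.card ι) ∧ ⁅R, R⁆ ≤ scalars ι F ∧ ¬ R ≤ scalars ι F ∧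
      R ≤ Isom G ∧ ActsAbsolutelyIrreducibly (matrixSet R) ∧ H ≤ subgroupNormalizer R) ∨
  (∃ (k t : ℕ) (e : ι ≃ (Fin t → Fin k)) (P : GL ι F) (f₁ : (Fin k → F) → (Fin k → F) → F),
      2 ≤ k ∧ 2 ≤ t ∧ (IsSymmetricForm f₁ ∨ (Even t ∧ IsSymplecticForm f₁)) ∧ ¬ (Fintype.card F = 3 ∧ k = 3) ∧
      IsTensorPowerFormStructure id (gramForm G) f₁ e P ∧ H ≤ tensorWreathSubgroup k t e P)

namespace InGeometric

variable {G : Matrix ι ι F} {H : Subgroup (GL ι F)}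

theorem singular {W : Submodule F (ι → F)} (h1 : W ≠ ⊥) (h2 : IsTotallySingularFor (gramForm G) W)
    (h : H ≤ subspaceStabilizer W) : InGeometric G H := Or.inl ⟨W, h1, h2, h⟩

theorem nonsingular {W : Submodule F (ι → F)} (h1 : W ≠ ⊥) (h3 : W ≠ ⊤) (h2 : IsNondegenerateOn (gramForm G) W)
    (h : H ≤ subspaceStabilizer W) : InGeometric G H :=
  Or.inr (Or.inl ⟨W, h1, h3, h2, h⟩)

theorem decomposition {t k : ℕ} {D : Fin t → Submodule F (ι → F)}
    (hD : IsNondegenerateMDecomposition (gramForm G) k D) (hi : ∀ i j, ∃ g ∈ Isom G, translate g (D i) = D j)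
    (h : H ≤ decompositionStabilizer D) : InGeometric G H :=
  Or.inr (Or.inr (Or.inl ⟨t, k, D, hD, hi, h⟩))

theorem singularPair {k : ℕ} {D : Fin 2 → Submodule F (ι → F)} (hk : 2 * k = Fintype.card ι)
    (hD : IsMDecomposition k D) (hs : ∀ i, IsTotallySingularFor (gramForm G) (D i))
    (h : H ≤ decompositionStabilizer D) : InGeometric G H :=
  Or.inr (Or.inr (Or.inr (Or.inl ⟨k, D, hk, hD, hs, h⟩)))

theorem field {r : ℕ} {K : Subalgebra F (Matrix ι ι F)} (hr : r.Prime) (hK : IsFieldSubalgebra r K)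
    (hs : IsSelfAdjointFor (gramForm G) K) (h : H ≤ subalgebraNormalizer K) : InGeometric G H :=
  Or.inr (Or.inr (Or.inr (Or.inr (Or.inl ⟨r, K, hr, hK, hs, h⟩))))

theorem fieldUnitary {K : Subalgebra F (Matrix ι ι F)} (he : Even (Fintype.card ι)) (hK : IsFieldSubalgebra 2 K)
    (hc : IsAdjointClosedFor (gramForm G) K) (hs : ¬ IsSelfAdjointFor (gramForm G) K)
    (h : H ≤ subalgebraNormalizer K) : InGeometric G H :=
  Or.inr (Or.inr (Or.inr (Or.inr (Or.inr (Or.inl ⟨K, he, hK, hc, hs, h⟩)))))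

theorem tensor {n₁ n₂ : ℕ} {e : ι ≃ Fin n₁ × Fin n₂} {P : GL ι F} {f₁ : (Fin n₁ → F) → (Fin n₁ → F) → F}
    {f₂ : (Fin n₂ → F) → (Fin n₂ → F) → F} (h2 : 2 ≤ n₁) (h12 : n₁ ≤ n₂)
    (hs : (IsSymmetricForm f₁ ∧ IsSymmetricForm f₂) ∨ (IsSymplecticForm f₁ ∧ IsSymplecticForm f₂))
    (hne : ¬ (Fintype.card F = 3 ∧ n₁ = 3 ∧ n₂ = 3))
    (hf : IsTensorFormStructure id (gramForm G) f₁ f₂ e P)
    (h : H ≤ tensorProductSubgroup n₁ n₂ e P) : InGeometric G H :=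
  Or.inr (Or.inr (Or.inr (Or.inr (Or.inr (Or.inr (Or.inl ⟨n₁, n₂, e, P, f₁, f₂, h2, h12, hs, hne, hf, h⟩))))))

theorem subfield {F₀ : Subfield F} {r : ℕ} {P : GL ι F} {ζ : F} (hr : r.Prime)
    (hq : Fintype.card F = Nat.card F₀ ^ r) (hζ : ζ ≠ 0) (hP : IsFormRationalStructure (gramForm G) F₀ ζ P)
    (h : H ≤ subfieldSubgroup F₀ P) : InGeometric G H :=
  Or.inr (Or.inr (Or.inr (Or.inr (Or.inr (Or.inr (Or.inr (Or.inl ⟨F₀, r, P, ζ, hr, hq, hζ, hP, h⟩)))))))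

theorem scalarCommutators {R : Subgroup (GL ι F)} (he : Even (Fintype.card ι)) (hc : ⁅R, R⁆ ≤ scalars ι F)
    (hn : ¬ R ≤ scalars ι F) (hi : R ≤ Isom G) (ha : ActsAbsolutelyIrreducibly (matrixSet R))
    (h : H ≤ subgroupNormalizer R) : InGeometric G H :=
  Or.inr (Or.inr (Or.inr (Or.inr (Or.inr (Or.inr (Or.inr (Or.inr (Or.inl ⟨R, he, hc, hn, hi, ha, h⟩))))))))

theorem wreath {k t : ℕ} {e : ι ≃ (Fin t → Fin k)} {P : GL ι F} {f₁ : (Fin k → F) → (Fin k → F) → F}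
    (hk2 : 2 ≤ k) (ht : 2 ≤ t) (h1 : IsSymmetricForm f₁ ∨ (Even t ∧ IsSymplecticForm f₁))
    (hne : ¬ (Fintype.card F = 3 ∧ k = 3))
    (hf : IsTensorPowerFormStructure id (gramForm G) f₁ e P)
    (h : H ≤ tensorWreathSubgroup k t e P) : InGeometric G H :=
  Or.inr (Or.inr (Or.inr (Or.inr (Or.inr (Or.inr (Or.inr (Or.inr (Or.inr
    ⟨k, t, e, P, f₁, hk2, ht, h1, hne, hf, h⟩))))))))

end InGeometric

section perp

variable {G : Matrix ι ι F} (hG : Sym G)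
include hG

theorem toBilin_nondeg : (Matrix.toBilin' G).Nondegenerate :=
  LinearMap.BilinForm.nondegenerate_toBilin'_iff_det_ne_zero.mpr hG.det_ne

theorem toBilin_isRefl : (Matrix.toBilin' G).IsRefl := fun u v h => by
  rw [Matrix.toBilin'_apply'] at h ⊢
  show gramForm G v u = 0
  rw [hG.flip]
  exact h

theorem finrank_perp (W : Submodule F (ι → F)) :
    Module.finrank F (perp G W) + Module.finrank F W = Fintype.card ι := by
  have h1 := LinearMap.BilinForm.finrank_orthogonal (toBilin_nondeg hG) W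
  have h2 := Submodule.finrank_le W
  rw [Module.finrank_pi] at h1 h2
  rw [perp]
  omega

theorem perp_perp (W : Submodule F (ι → F)) : perp G (perp G W) = W :=
  LinearMap.BilinForm.orthogonal_orthogonal (toBilin_nondeg hG) (toBilin_isRefl hG) W

theorem invariant_perp {H : Subgroup (GL ι F)} (hH : H ≤ Isom G) {W : Submodule F (ι → F)}
    (hW : Invariant H W) : Invariant H (perp G W) := by
  intro h hh v hv
  rw [mem_perp] at hv ⊢
  intro w hw
  have hw' := hv _ (hW h⁻¹ (inv_mem hh) w hw)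
  rw [← gramForm_apply_isom (hH hh), mulVec_inv_cancel] at hw'
  exact hw'

theorem nondegOn_of_inf {W : Submodule F (ι → F)} (h : W ⊓ perp G W = ⊥) : IsNondegenerateOn (gramForm G) W := by
  intro w hw hw0
  have key : ∃ x ∈ W, gramForm G x w ≠ 0 := by
    by_contra! hc
    exact hw0 ((Submodule.mem_bot F).mp (h ▸ ⟨hw, mem_perp.mpr hc⟩))
  refine ⟨key, ?_⟩
  obtain ⟨x, hx, hne⟩ := key
  exact ⟨x, hx, by rw [hG.flip]; exact hne⟩

/-- The reducible case. -/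
theorem of_reducible {H : Subgroup (GL ι F)} (hH : H ≤ Isom G) {W : Submodule F (ι → F)} (hW : Invariant H W)
    (h0 : W ≠ ⊥) (h1 : W ≠ ⊤) : InGeometric G H := by
  have hW' := invariant_perp hG hH hW
  by_cases hR : W ⊓ perp G W = ⊥
  · exact InGeometric.nonsingular h0 h1 (nondegOn_of_inf hG hR) (invariant_le_stab hW)
  · refine InGeometric.singular hR (fun u hu v hv => ?_) (invariant_le_stab fun x hx v hv =>
      ⟨hW x hx v hv.1, hW' x hx v hv.2⟩)
    exact mem_perp.mp hv.2 u hu.1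

end perp

end Cfsg.Agent.Lib.AschbacherOrth
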