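import Cfsg.Agent.Lib.AschbacherOrth.Outcome
import Cfsg.Agent.Lib.AschbacherSp.Cases
import Cfsg.Agent.Lib.Forms.Basis
import Cfsg.Agent.Lib.Spectrum.SL25Recognition

/-!
Coordinates and tensor decompositions compatible with a symmetric matrix in odd characteristic.
-/

set_option autoImplicit false
set_option linter.style.haveILetI false
set_option linter.unusedSectionVars false

namespace Cfsg.Agent.Lib.AschbacherOrth

open Cfsg.Geo Cfsg.Agent.Lib.PrimeDim.Basic Cfsg.Agent.Lib.Aschbacher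
open Cfsg.Agent.Lib.AschbacherSp (Isom mem_isom gramForm_apply_isom gramForm_single gramForm_ext adj gramIn toX
  gramForm_in toX_mk mk_toX gramForm_toX toX_add toX_smul toX_coord le_tensorCoords kronecker_eq_iff_scalar
  factors_of_mem gramIn_swap gramMatrix_gramForm two_ne_zero' eq_zero_of_two_mul)
open scoped Matrix MatrixGroups Kronecker commutatorElement

variable {ι : Type} [Fintype ι] [DecidableEq ι] {F : Type*} [Field F] {X : Type} [Fintype X] [DecidableEq X]
variable {G : Matrix ι ι F}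

theorem gramIn_symm (hG : Sym G) (ε : ι ≃ X) (P : GL ι F) : (gramIn G ε P)ᵀ = gramIn G ε P := by
  rw [gramIn, Matrix.transpose_submatrix, Matrix.transpose_mul, Matrix.transpose_mul, Matrix.transpose_transpose,
    hG.symm, mul_assoc]

theorem gramIn_det (hG : Sym G) (ε : ι ≃ X) (P : GL ι F) : (gramIn G ε P).det ≠ 0 := by
  have hP : (P : Matrix ι ι F).det ≠ 0 := ((Matrix.isUnit_iff_isUnit_det _).mp P.isUnit).ne_zero
  rw [gramIn, Matrix.det_submatrix_equiv_self, Matrix.det_mul, Matrix.det_mul, Matrix.det_transpose]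
  exact mul_ne_zero (mul_ne_zero hP hG.det_ne) hP

theorem gramIn_sym (hG : Sym G) (ε : ι ≃ X) (P : GL ι F) : Sym (gramIn G ε P) :=
  ⟨gramIn_symm hG ε P, gramIn_det hG ε P⟩

/-- The adjoint in coordinates. -/
theorem adj_coord (hG : Sym G) (ε : ι ≃ X) (P : GL ι F) (M : Matrix X X F) :
    adj G (coordAlg ε P M) = coordAlg ε P (adj (gramIn G ε P) M) :=
  (eq_adj hG fun u v => by
    rw [gramForm_toX G ε P, toX_coord, gramForm_adj (gramIn_sym hG ε P), ← toX_coord ε P, ← gramForm_toX]).symm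

/-- The coordinates of an isometry. -/
theorem symm_isom {g : GL ι F} (hg : g ∈ Isom G) (ε : ι ≃ X) (P : GL ι F) :
    (coordGL ε P).symm g ∈ Isom (gramIn G ε P) := by
  rw [mem_isom]
  refine gramForm_ext fun x y => ?_
  rw [← gramForm_apply, ← toX_mk ε P x, ← toX_mk ε P y, ← toX_coord, ← toX_coord, ← gramForm_toX, ← gramForm_toX,
    ← coordGL_val, MulEquiv.apply_symm_apply, gramForm_apply_isom hg]

variable [Fintype F]

/-- If a tensor factor is stable under adjoints the form is a tensor product. -/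
theorem exists_factor [Nonempty ι] (hG : Sym G) {m l : ℕ} (ε : ι ≃ Fin m × Fin l) (P : GL ι F)
    (hadj : ∀ A : Matrix (Fin m) (Fin m) F, ∃ A' : Matrix (Fin m) (Fin m) F,
      adj G (coordAlg ε P (A ⊗ₖ (1 : Matrix (Fin l) (Fin l) F))) =
        coordAlg ε P (A' ⊗ₖ (1 : Matrix (Fin l) (Fin l) F))) :
    ∃ (G₁ : Matrix (Fin m) (Fin m) F) (C : Matrix (Fin l) (Fin l) F) (s : F),
      gramIn G ε P = G₁ ⊗ₖ C ∧ G₁.det ≠ 0 ∧ C.det ≠ 0 ∧ (s = 1 ∨ s = -1) ∧ G₁ᵀ = s • G₁ ∧ Cᵀ = s • C := by
  classical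
  obtain ⟨i₀⟩ := ‹Nonempty ι›
  set G' := gramIn G ε P with hG'
  have hG'a : Sym G' := gramIn_sym hG ε P
  let K : Fin l → Fin l → Matrix (Fin m) (Fin m) F := fun u v => Matrix.of fun a c => G' (a, u) (c, v)
  have hrel : ∀ A, ∃ A', ∀ u v, Aᵀ * K u v = K u v * A' := by
    intro A
    obtain ⟨A', hA'⟩ := hadj A
    rw [adj_coord hG] at hA'
    have h1 := congrArg (fun M => G' * M) ((coordAlg ε P).injective hA')
    simp only [adj, ← hG', ← mul_assoc] at h1
    rw [Matrix.mul_nonsing_inv _ hG'a.unit, one_mul] at h1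
    refine ⟨A', fun u v => Matrix.ext fun a c => ?_⟩
    have h2 := congrFun (congrFun h1 (a, u)) (c, v)
    simpa [Matrix.mul_apply, Fintype.sum_prod_type, Matrix.one_apply, Matrix.kroneckerMap_apply, K, ite_mul,
      mul_ite, Finset.sum_ite_eq, Finset.sum_ite_eq'] using h2
  obtain ⟨u₀, v₀, hK0⟩ : ∃ u v, K u v ≠ 0 := by
    by_contra! hc
    refine hG'a.det_ne ?_
    haveI : Nonempty (Fin m × Fin l) := ⟨ε i₀⟩
    rw [show G' = 0 from Matrix.ext fun ⟨a, u⟩ ⟨c, v⟩ => congrFun (congrFun (hc u v) a) c]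
    exact Matrix.det_zero
  have hK0d : (K u₀ v₀).det ≠ 0 := by
    intro hd
    obtain ⟨w, hw, hwK⟩ := Matrix.exists_vecMul_eq_zero_iff.mpr hd
    obtain ⟨j, hj⟩ := Function.ne_iff.mp hw
    apply hK0
    ext a c
    obtain ⟨A', hA'⟩ := hrel (Matrix.single a j 1)
    have h3 : (w ᵥ* (Matrix.single a j (1 : F))ᵀ) ᵥ* K u₀ v₀ = 0 := by
      rw [Matrix.vecMul_vecMul, hA', ← Matrix.vecMul_vecMul, hwK, Matrix.zero_vecMul]
    have h4 : w ᵥ* (Matrix.single a j (1 : F))ᵀ = Pi.single a (w j) := by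
      rw [Matrix.vecMul_transpose]
      funext b
      rcases eq_or_ne b a with rfl | hb
      · simp [Matrix.mulVec, dotProduct, Matrix.single_apply]
      · simp [Matrix.mulVec, dotProduct, Matrix.single_apply, hb, Ne.symm hb]
    rw [h4] at h3
    have := congrFun h3 c
    simp [Matrix.vecMul, dotProduct, Pi.single_apply, ite_mul] at this
    exact this.resolve_left hj
  have hKscal : ∀ u v, ∃ c : F, K u v = c • K u₀ v₀ := by
    intro u v
    have hu : IsUnit (K u₀ v₀).det := isUnit_iff_ne_zero.mpr hK0d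
    have hcomm : ∀ i j, Commute (Matrix.single i j (1 : F)) (K u v * (K u₀ v₀)⁻¹) := by
      intro i j
      obtain ⟨A', hA'⟩ := hrel (Matrix.single j i 1)
      rw [← Matrix.transpose_single, commute_iff_eq]
      calc (Matrix.single j i (1 : F))ᵀ * (K u v * (K u₀ v₀)⁻¹) = K u v * (A' * (K u₀ v₀)⁻¹) := by
            rw [← mul_assoc, hA', mul_assoc]
        _ = K u v * ((K u₀ v₀)⁻¹ * (Matrix.single j i (1 : F))ᵀ) := by
            congr 1
            have := congrArg (fun M => (K u₀ v₀)⁻¹ * M * (K u₀ v₀)⁻¹) (hA' u₀ v₀)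
            simp only [Matrix.nonsing_inv_mul_cancel_left _ _ hu] at this
            rw [← this, mul_assoc, Matrix.mul_nonsing_inv_cancel_right _ _ hu]
        _ = _ := by rw [mul_assoc]
    obtain ⟨c, hc⟩ : K u v * (K u₀ v₀)⁻¹ ∈ Set.range (Matrix.scalar (Fin m)) :=
      Matrix.mem_range_scalar_iff_commute_single'.mpr hcomm
    refine ⟨c, ?_⟩
    have := congrArg (fun M => M * K u₀ v₀) hc
    simp only [Matrix.nonsing_inv_mul_cancel_right _ _ hu] at this
    rw [← this, Matrix.scalar_apply, Matrix.smul_eq_diagonal_mul]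
  choose cf hcf using hKscal
  let C : Matrix (Fin l) (Fin l) F := Matrix.of cf
  have heq : G' = K u₀ v₀ ⊗ₖ C := by
    ext ⟨a, u⟩ ⟨c, v⟩
    have := congrFun (congrFun (hcf u v) a) c
    simpa [K, C, Matrix.kroneckerMap_apply, mul_comm] using this
  haveI : Nonempty (Fin m) := ⟨(ε i₀).1⟩
  haveI : Nonempty (Fin l) := ⟨(ε i₀).2⟩
  have hCd : C.det ≠ 0 := by
    intro h0
    apply hG'a.det_ne
    rw [heq, Matrix.det_kronecker, h0, zero_pow Fintype.card_ne_zero, mul_zero]
  have hK1 : K u₀ v₀ ≠ 0 := hK0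
  have hC1 : C ≠ 0 := fun h => hCd (by rw [h, Matrix.det_zero])
  have hsk : (K u₀ v₀)ᵀ ⊗ₖ Cᵀ = K u₀ v₀ ⊗ₖ C := by
    rw [← heq, ← hG'a.symm, heq]
    ext ⟨a, u⟩ ⟨c, v⟩
    rfl
  obtain ⟨c, hc0, h1, h2⟩ := kronecker_eq_iff_scalar hK1 hC1 hsk
  have hcc : c * c = 1 := by
    have h3 := congrArg Matrix.transpose h1
    rw [Matrix.transpose_transpose, Matrix.transpose_smul, h1, smul_smul] at h3
    obtain ⟨a, b, hab⟩ : ∃ a b, K u₀ v₀ a b ≠ 0 := by
      by_contra! hc'; exact hK1 (Matrix.ext hc')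
    have h4 := congrFun (congrFun h3 a) b
    rw [Matrix.smul_apply, smul_eq_mul] at h4
    exact (mul_eq_right₀ hab).mp h4.symm
  refine ⟨K u₀ v₀, C, c, heq, hK0d, hCd, mul_self_eq_one_iff.mp hcc, h1, ?_⟩
  rw [h2]
  congr 1
  exact (eq_inv_of_mul_eq_one_left hcc).symm


omit [DecidableEq ι] in
theorem det_eq_zero_of_skew_odd {κ : Type} [Fintype κ] [DecidableEq κ] (hodd : Odd (Fintype.card F))
    (hκ : Odd (Fintype.card κ)) {A : Matrix κ κ F} (h : Aᵀ = -A) : A.det = 0 := by
  have h1 := congrArg Matrix.det h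
  rw [Matrix.det_transpose, Matrix.det_neg, hκ.neg_one_pow, neg_one_mul] at h1
  exact eq_zero_of_two_mul hodd h1

omit [DecidableEq ι] in
theorem isSymmetric_gram {κ : Type} [Fintype κ] [DecidableEq κ] {A : Matrix κ κ F} (hs : Aᵀ = A) (hd : A.det ≠ 0) :
    IsSymmetricForm (gramForm A) :=
  ⟨gramForm_bilinear A, fun u v => by rw [gramForm_flip, hs], gramForm_nondegenerate hd⟩

/-- In odd dimension a symmetric form is similar to the identity. -/
theorem exists_frame_odd (hodd : Odd (Fintype.card F)) {d : ℕ} (hd : Odd d) {A : Matrix (Fin d) (Fin d) F}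
    (hs : Aᵀ = A) (hA : A.det ≠ 0) :
    ∃ (M : Matrix (Fin d) (Fin d) F) (κ : F), κ ≠ 0 ∧ Mᵀ * A * M = κ • 1 := by
  classical
  have h2 : (2 : F) ≠ 0 := two_ne_zero' hodd
  obtain ⟨m, rfl⟩ : ∃ m, d = m + 1 := ⟨d - 1, by obtain ⟨j, hj⟩ := hd; omega⟩
  obtain ⟨α, hα⟩ := Cfsg.Agent.Lib.Forms.exists_nonsq h2
  have hα0 : α ≠ 0 := fun h => hα (h ▸ IsSquare.zero)
  have main : ∀ A : Matrix (Fin (m + 1)) (Fin (m + 1)) F, Aᵀ = A → A.det ≠ 0 →
      ∃ (M : Matrix (Fin (m + 1)) (Fin (m + 1)) F) (v : F), (v = 1 ∨ v = α) ∧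
        Mᵀ * A * M = Matrix.diagonal (Function.update (fun _ => (1 : F)) (Fin.last m) v) := by
    intro A hs hA
    obtain ⟨b, h0, h1, hv⟩ := Cfsg.Agent.Lib.Forms.exists_orth_basis_symm h2 hα m (Matrix.toBilin' A)
      ⟨fun x y => by
        simp only [RingHom.id_apply, Matrix.toBilin'_apply']
        show gramForm A x y = gramForm A y x
        rw [gramForm_flip, hs]⟩
      (LinearMap.BilinForm.nondegenerate_toBilin'_iff_det_ne_zero.mpr hA) (by simp)
    simp only [Matrix.toBilin'_apply'] at h0 h1 hv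
    refine ⟨Matrix.of fun p i => b i p, gramForm A (b (Fin.last m)) (b (Fin.last m)), hv, ?_⟩
    ext i j
    rw [← gramForm_single ((Matrix.of fun p i => b i p)ᵀ * A * Matrix.of fun p i => b i p), ← gramForm_apply,
      Matrix.mulVec_single_one, Matrix.mulVec_single_one]
    show gramForm A (b i) (b j) = _
    rcases eq_or_ne i j with rfl | hij
    · rw [Matrix.diagonal_apply_eq]
      by_cases hl : i = Fin.last m
      · subst hl; rw [Function.update_self]
      · rw [Function.update_of_ne hl]; exact h1 i hl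
    · rw [Matrix.diagonal_apply_ne _ hij]; exact h0 i j hij
  obtain ⟨M, v, hv, hM⟩ := main A hs hA
  rcases hv with rfl | rfl
  · refine ⟨M, 1, one_ne_zero, ?_⟩
    rw [hM, one_smul, Function.update_eq_self, Matrix.diagonal_one]
  obtain ⟨N, w, hw, hN⟩ := main (v • A) (by rw [Matrix.transpose_smul, hs])
    (by rw [Matrix.det_smul]; exact mul_ne_zero (pow_ne_zero _ hα0) hA)
  rcases hw with rfl | rfl
  · refine ⟨N, v⁻¹, inv_ne_zero hα0, ?_⟩
    rw [Function.update_eq_self, Matrix.diagonal_one, Matrix.mul_smul, Matrix.smul_mul] at hN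
    rw [← hN, smul_smul, inv_mul_cancel₀ hα0, one_smul]
  exfalso
  apply hα
  have e1 := congrArg Matrix.det hM
  have e2 := congrArg Matrix.det hN
  simp only [Matrix.det_mul, Matrix.det_transpose, Matrix.det_diagonal, Matrix.det_smul,
    Finset.prod_update_of_mem (Finset.mem_univ _), Finset.prod_const_one, mul_one, Fintype.card_fin] at e1 e2
  obtain ⟨j, hj⟩ : Even (m + 1 + 1) := Odd.add_one hd
  have hMd : M.det ≠ 0 := fun h => hα0 (by rw [← e1, h]; ring)
  have hwA : w ^ (m + 1) * (w / (M.det * M.det)) * (N.det * N.det) = w := by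
    have hAe : w / (M.det * M.det) = A.det := by
      rw [div_eq_iff (mul_ne_zero hMd hMd)]
      linear_combination -e1
    rw [hAe]
    linear_combination e2
  refine ⟨w ^ j * N.det / M.det, ?_⟩
  calc w = w ^ (m + 1) * (w / (M.det * M.det)) * (N.det * N.det) := hwA.symm
    _ = w ^ (m + 1 + 1) * (N.det * N.det) / (M.det * M.det) := by rw [pow_succ w (m + 1)]; ring
    _ = _ := by rw [hj, pow_add]; ring

/-- A group embedded in the isometries of a symmetric form on three dimensions over the field with three elements is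
solvable. -/
theorem solvable_of_three (hq : Fintype.card F = 3) {N : Subgroup (GL ι F)} {A₀ : Matrix (Fin 3) (Fin 3) F}
    (hs : A₀ᵀ = A₀) (hA₀ : A₀.det ≠ 0) (A : N →* Matrix (Fin 3) (Fin 3) F) (hinj : Function.Injective A)
    (hiso : ∀ x, (A x)ᵀ * A₀ * A x = A₀) : Group.IsSolvable N := by
  classical
  have hodd : Odd (Fintype.card F) := by rw [hq]; decide
  obtain ⟨h3, hF⟩ := Cfsg.Agent.Lib.AschbacherSp.three_facts hq
  obtain ⟨M, κ, hκ, hM⟩ := exists_frame_odd hodd (by decide) hs hA₀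
  have hMd : M.det ≠ 0 := fun h => by
    have := congrArg Matrix.det hM
    rw [Matrix.det_mul, Matrix.det_mul, h, mul_zero, Matrix.det_smul, Matrix.det_one, mul_one] at this
    exact pow_ne_zero _ hκ this.symm
  have hMu : IsUnit M.det := isUnit_iff_ne_zero.mpr hMd
  let B : N → Matrix (Fin 3) (Fin 3) F := fun x => M⁻¹ * A x * M
  have hBinj : Function.Injective B := fun x y h => hinj (by
    have := congrArg (fun T => M * T * M⁻¹) h
    simpa [B, mul_assoc, Matrix.mul_nonsing_inv _ hMu, Matrix.mul_nonsing_inv_cancel_left _ _ hMu] using this)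
  have horth : ∀ x, (B x)ᵀ * B x = 1 := fun x => by
    have e : (M * B x)ᵀ * A₀ * (M * B x) = Mᵀ * A₀ * M := by
      rw [show M * B x = A x * M by simp [B, mul_assoc, Matrix.mul_nonsing_inv_cancel_left _ _ hMu],
        Matrix.transpose_mul]
      calc Mᵀ * (A x)ᵀ * A₀ * (A x * M) = Mᵀ * ((A x)ᵀ * A₀ * A x) * M := by simp only [mul_assoc]
        _ = _ := by rw [hiso]
    have e' : (M * B x)ᵀ * A₀ * (M * B x) = κ • ((B x)ᵀ * B x) := by
      calc (M * B x)ᵀ * A₀ * (M * B x) = (B x)ᵀ * (Mᵀ * A₀ * M) * B x := by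
            simp only [Matrix.transpose_mul, mul_assoc]
        _ = _ := by rw [hM, Matrix.mul_smul, Matrix.smul_mul, mul_one]
    rw [e', hM] at e
    exact smul_right_injective _ hκ e
  have hsq : ∀ y : F, y * y = 0 ∨ y * y = 1 := fun y => by
    rcases hF y with rfl | rfl | rfl <;> simp
  have hcol : ∀ x j, ∃ p : Fin 3 × Bool, ∀ i, B x i j = if i = p.1 then (if p.2 then 1 else -1) else 0 := by
    intro x j
    have h1 := congrFun (congrFun (horth x) j) j
    simp only [Matrix.mul_apply, Matrix.transpose_apply, Fin.sum_univ_three, Matrix.one_apply_eq] at h1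
    have h10 : (1 : F) ≠ 0 := one_ne_zero
    have h20 : (2 : F) ≠ 0 := two_ne_zero' hodd
    have hpm : ∀ y : F, y ≠ 0 → ∃ b : Bool, y = if b then 1 else -1 := fun y hy => by
      rcases (hF y).resolve_left hy with rfl | rfl
      · exact ⟨true, rfl⟩
      · exact ⟨false, rfl⟩
    by_cases a0 : B x 0 j = 0 <;> by_cases a1 : B x 1 j = 0 <;> by_cases a2 : B x 2 j = 0
    · rw [a0, a1, a2] at h1; simp at h1
    · obtain ⟨b, hb⟩ := hpm _ a2
      exact ⟨(2, b), fun i => by fin_cases i <;> simp [a0, a1, hb]⟩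
    · obtain ⟨b, hb⟩ := hpm _ a1
      exact ⟨(1, b), fun i => by fin_cases i <;> simp [a0, a2, hb]⟩
    · exfalso
      rw [a0, (hsq _).resolve_left (mul_ne_zero a1 a1), (hsq _).resolve_left (mul_ne_zero a2 a2)] at h1
      exact h10 (by linear_combination h1)
    · obtain ⟨b, hb⟩ := hpm _ a0
      exact ⟨(0, b), fun i => by fin_cases i <;> simp [a1, a2, hb]⟩
    · exfalso
      rw [a1, (hsq _).resolve_left (mul_ne_zero a0 a0), (hsq _).resolve_left (mul_ne_zero a2 a2)] at h1
      exact h10 (by linear_combination h1)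
    · exfalso
      rw [a2, (hsq _).resolve_left (mul_ne_zero a0 a0), (hsq _).resolve_left (mul_ne_zero a1 a1)] at h1
      exact h10 (by linear_combination h1)
    · exfalso
      rw [(hsq _).resolve_left (mul_ne_zero a0 a0), (hsq _).resolve_left (mul_ne_zero a1 a1),
        (hsq _).resolve_left (mul_ne_zero a2 a2)] at h1
      exact h20 (by linear_combination h1)
  choose p hp using hcol
  let S : Type := {f : Fin 3 → Fin 3 × Bool // Function.Injective (Prod.fst ∘ f)}
  have hpinj : ∀ x, Function.Injective (Prod.fst ∘ p x) := fun x j j' h => by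
    by_contra hne
    have h1 := congrFun (congrFun (horth x) j) j'
    rw [Matrix.one_apply_ne hne, Matrix.mul_apply, Finset.sum_eq_single (p x j).1] at h1
    · simp only [Matrix.transpose_apply, hp, show (p x j).1 = (p x j').1 from h, if_true] at h1
      rcases mul_eq_zero.mp h1 with h2 | h2 <;> split_ifs at h2 <;> simp at h2
    · intro i _ hi
      rw [Matrix.transpose_apply, hp, if_neg hi, zero_mul]
    · simp
  let π : N → S := fun x => ⟨p x, hpinj x⟩
  have hπ : Function.Injective π := fun x y h => hBinj (Matrix.ext fun i j => by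
    have : p x = p y := congrArg Subtype.val h
    rw [hp, hp, this])
  have hS : Nat.card S ≤ 48 := by
    rw [Nat.card_eq_fintype_card]
    decide +kernel
  haveI : Finite N := Finite.of_injective π hπ
  exact Cfsg.Agent.Lib.Spectrum.isSolvable_of_card_lt_sixty (Nat.card N) rfl
    ((Nat.card_le_card_of_injective π hπ).trans hS |>.trans_lt (by norm_num))

theorem solvable_of_three' (hq : Fintype.card F = 3) {d : ℕ} (hd : d = 3) {N : Subgroup (GL ι F)}
    {A₀ : Matrix (Fin d) (Fin d) F} (hs : A₀ᵀ = A₀) (hA₀ : A₀.det ≠ 0) (A : N →* Matrix (Fin d) (Fin d) F)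
    (hinj : Function.Injective A) (hiso : ∀ x, (A x)ᵀ * A₀ * A x = A₀) : Group.IsSolvable N := by
  subst hd
  exact solvable_of_three hq hs hA₀ A hinj hiso

omit [Fintype F] in
theorem subgroup_eq_bot_of_solvable {T : Subgroup (GL ι F)} [Group.IsSolvable T] (hperf : ⁅T, T⁆ = T) : T = ⊥ := by
  have hc : commutator T = ⊤ := by
    apply Subgroup.map_injective T.subtype_injective
    rw [commutator_def, Subgroup.map_commutator, ← MonoidHom.range_eq_map, Subgroup.range_subtype]
    exact hperf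
  haveI : Subsingleton T := by
    rcases subsingleton_or_nontrivial T with hs' | hn'
    · exact hs'
    · exact absurd hc (Group.IsSolvable.commutator_lt_top_of_nontrivial _).ne
  exact Subgroup.eq_bot_of_subsingleton _

/-- A unit system spanning the algebra of an `H`-normalised group of isometries gives a tensor structure, or absolute
irreducibility. -/
theorem tensor_or_abs [Nonempty ι] (hG : Sym G) (hodd : Odd (Fintype.card F)) {H N : Subgroup (GL ι F)}
    (hH : H ≤ Isom G) (hN : N ≤ Isom G) (hNn : NormalizedBy H N) (hNs : ¬ N ≤ scalars ι F)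
    (hder : ⁅N, N⁆ ≤ scalars ι F ∨ ⁅N, N⁆ = N) {m : ℕ} {e : Fin m → Fin m → Matrix ι ι F} (hm : 2 ≤ m)
    (he : IsUnitSys e) (hemem : ∀ a b, e a b ∈ algOf N) (hspan : ∀ x ∈ algOf N, x ∈ unitSpan e) :
    InGeometric G H ∨ ActsAbsolutelyIrreducibly (matrixSet N) := by
  classical
  obtain ⟨l, ε, P, hl, hle, h1, hiff⟩ := le_tensorCoords (H := H) (by omega : 0 < m) he (fun g hg a c =>
    hspan _ (conj_mem_algOf (fun x hx => hNn g hg x hx) (hemem a c)))
  have hmem : ∀ M ∈ unitSpan e, M ∈ algOf N := fun M hM =>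
    (Submodule.span_le (p := Subalgebra.toSubmodule (algOf N))).mpr (by rintro _ ⟨ab, rfl⟩; exact hemem _ _) hM
  by_cases hl1 : l = 1
  · right
    have htop : ∀ M, M ∈ algOf N := fun M => hmem M (h1 hl1 M)
    refine ⟨irred_iff.mpr fun W hW => ?_, fun M hM => ?_⟩
    · by_cases hb : W = ⊥
      · exact Or.inl hb
      right
      obtain ⟨w, hw, hw0⟩ := Submodule.exists_mem_ne_zero_of_ne_bot hb
      obtain ⟨j, hj⟩ := Function.ne_iff.mp hw0
      rw [eq_top_iff]
      intro v _
      have h2 := algOf_invariant hW (htop (Matrix.of fun a b => if b = j then v a * (w j)⁻¹ else 0)) w hw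
      have h3 : (Matrix.of fun a b => if b = j then v a * (w j)⁻¹ else 0) *ᵥ w = v := by
        funext a
        simp [Matrix.mulVec, dotProduct, mul_assoc, inv_mul_cancel₀ (show w j ≠ 0 from hj)]
      rwa [h3] at h2
    · have hc : M ∈ commutant N := mem_commutant.mpr fun x hx => (hM _ (mem_matrixSet.mpr ⟨x, hx, rfl⟩)).symm
      obtain ⟨c, hc'⟩ := (Matrix.mem_range_scalar_iff_commute_single'.mpr fun i j =>
        (algOf_comm (htop _) hc).symm : M ∈ Set.range (Matrix.scalar ι))
      exact ⟨c, by rw [← hc', Matrix.scalar_apply, Matrix.smul_one_eq_diagonal]⟩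
  left
  obtain ⟨G₁, C, s, hfac, hd1, hd2, hs, hs1, hs2⟩ := exists_factor hG ε P fun A => by
    obtain ⟨A', hA'⟩ := (hiff _).mp (hspan _ (adj_mem_algOf hG hN (hmem _ ((hiff _).mpr ⟨A, rfl⟩))))
    exact ⟨A', hA'.symm⟩
  -- over the field with three elements two three-dimensional factors do not occur
  have hnot : ¬ (Fintype.card F = 3 ∧ m = 3 ∧ l = 3) := by
    rintro ⟨hq, rfl, rfl⟩
    have hsym : G₁ᵀ = G₁ := by
      rcases hs with rfl | rfl
      · rw [hs1, one_smul]
      · exact absurd (det_eq_zero_of_skew_odd hodd (by decide) (by rw [hs1, neg_one_smul])) hd1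
    have hA : ∀ x : N, ∃ A : Matrix (Fin 3) (Fin 3) F,
        coordAlg ε P (A ⊗ₖ (1 : Matrix (Fin 3) (Fin 3) F)) = ((x : GL ι F) : Matrix ι ι F) := fun x =>
      (hiff _).mp (hspan _ (Algebra.subset_adjoin (mem_matrixSet.mpr ⟨x, x.2, rfl⟩)))
    choose A hA using hA
    have hK : Function.Injective fun A : Matrix (Fin 3) (Fin 3) F =>
        coordAlg ε P (A ⊗ₖ (1 : Matrix (Fin 3) (Fin 3) F)) := fun A B h => Matrix.ext fun a b => by
      have := congrFun (congrFun ((coordAlg ε P).injective h) (a, 0)) (b, 0)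
      simpa [Matrix.kroneckerMap_apply] using this
    have hA1 : A 1 = 1 := hK (by simp only [hA, Matrix.one_kronecker_one, map_one]; rfl)
    have hAm : ∀ x y, A (x * y) = A x * A y := fun x y => hK (by
      show coordAlg ε P _ = coordAlg ε P _
      rw [hA, ← one_mul (1 : Matrix (Fin 3) (Fin 3) F), Matrix.mul_kronecker_mul, map_mul, hA, hA]; rfl)
    let ρ : N →* Matrix (Fin 3) (Fin 3) F := { toFun := A, map_one' := hA1, map_mul' := hAm }
    have hρ : Function.Injective ρ := fun x y h => Subtype.ext (Units.ext (by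
      rw [← hA x, ← hA y, show A x = A y from h]))
    have hiso : ∀ x, (ρ x)ᵀ * G₁ * ρ x = G₁ := fun x => by
      have h2 := mem_isom.mp (symm_isom (hN x.2) ε P)
      rw [show (((coordGL ε P).symm (x : GL ι F) : GL (Fin 3 × Fin 3) F) : Matrix _ _ F) =
          A x ⊗ₖ (1 : Matrix (Fin 3) (Fin 3) F) from (coordAlg ε P).injective (by
            rw [← coordGL_val, MulEquiv.apply_symm_apply, hA]),
        hfac, ← Matrix.kroneckerMap_transpose, Matrix.transpose_one, ← Matrix.mul_kronecker_mul,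
        ← Matrix.mul_kronecker_mul, one_mul, mul_one] at h2
      obtain ⟨u, v, huv⟩ : ∃ u v, C u v ≠ 0 := by
        by_contra! hc
        exact hd2 (by rw [show C = 0 from Matrix.ext hc]; exact Matrix.det_zero)
      ext a b
      exact mul_right_cancel₀ huv (congrFun (congrFun h2 (a, u)) (b, v))
    rcases hder with hc | hp
    · -- commutative
      have hcomm : ∀ x ∈ N, ∀ y ∈ N, (x : Matrix ι ι F) * y.val = y.val * x.val := by
        intro x hx y hy
        obtain ⟨c, -, hc'⟩ := Cfsg.Agent.Lib.Aschbacher.exists_factor hc hx hy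
        suffices hc1 : c = 1 by rw [hc', hc1, one_smul]
        have e : A ⟨x, hx⟩ * A ⟨y, hy⟩ = c • (A ⟨y, hy⟩ * A ⟨x, hx⟩) := hK (by
          show coordAlg ε P _ = coordAlg ε P _
          rw [Matrix.smul_kronecker, map_smul, ← hAm, ← hAm, hA, hA]
          exact hc')
        have hd := congrArg Matrix.det e
        rw [Matrix.det_smul, Matrix.det_mul, Matrix.det_mul, mul_comm (A ⟨y, hy⟩).det, Fintype.card_fin] at hd
        have hne : (A ⟨x, hx⟩).det * (A ⟨y, hy⟩).det ≠ 0 := by
          have : ∀ z, (A z).det ≠ 0 := fun z h => by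
            have h' := congrArg Matrix.det (show (A z)ᵀ * G₁ * A z = G₁ from hiso z)
            rw [Matrix.det_mul, h, mul_zero] at h'
            exact hd1 h'.symm
          exact mul_ne_zero (this _) (this _)
        have hc3 : c ^ 3 = 1 := ((mul_eq_right₀ hne).mp hd.symm)
        have h3 : c ^ 3 = c := by rw [← hq, FiniteField.pow_card]
        exact h3.symm.trans hc3
      have hall : ∀ M ∈ algOf N, M ∈ commutant N := fun M hM => by
        refine mem_commutant.mpr fun x hx => ?_
        have hx' : (x : Matrix ι ι F) ∈ commutant N := mem_commutant.mpr fun y hy => hcomm y hy x hx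
        exact algOf_comm hM hx'
      have h00 : e ⟨0, by omega⟩ ⟨1, by omega⟩ * e ⟨1, by omega⟩ ⟨0, by omega⟩ =
          e ⟨1, by omega⟩ ⟨0, by omega⟩ * e ⟨0, by omega⟩ ⟨1, by omega⟩ :=
        algOf_comm (hemem _ _) (hall _ (hemem _ _))
      rw [he.mul, he.mul, if_pos rfl, if_pos rfl] at h00
      have h01 : (⟨0, by omega⟩ : Fin 3) ≠ ⟨1, by omega⟩ := by simp
      have h5 : e (⟨0, by omega⟩ : Fin 3) ⟨0, by omega⟩ = 0 := by
        have := congrArg (fun T => e (⟨0, by omega⟩ : Fin 3) ⟨0, by omega⟩ * T) h00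
        simp only [he.mul, if_true, if_neg h01] at this
        exact this
      refine one_ne_zero (α := Matrix ι ι F) ?_
      rw [← he.sum]
      refine Finset.sum_eq_zero fun a _ => ?_
      have := he.mul a (⟨0, by omega⟩ : Fin 3) (⟨0, by omega⟩ : Fin 3) a
      rw [if_pos rfl] at this
      rw [← this, show e a (⟨0, by omega⟩ : Fin 3) = e a ⟨0, by omega⟩ * e ⟨0, by omega⟩ ⟨0, by omega⟩ by
        rw [he.mul, if_pos rfl], h5, mul_zero, zero_mul]
    · haveI := solvable_of_three hq hsym hd1 ρ hρ hiso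
      exact hNs ((subgroup_eq_bot_of_solvable hp).trans_le bot_le)
  have hforms : ∀ {a b : ℕ} (A : Matrix (Fin a) (Fin a) F) (B : Matrix (Fin b) (Fin b) F), A.det ≠ 0 → B.det ≠ 0 →
      Aᵀ = s • A → Bᵀ = s • B → (IsSymmetricForm (gramForm A) ∧ IsSymmetricForm (gramForm B)) ∨
        (IsSymplecticForm (gramForm A) ∧ IsSymplecticForm (gramForm B)) := by
    intro a b A B hA hB hsA hsB
    rcases hs with rfl | rfl
    · rw [one_smul] at hsA hsB
      exact Or.inl ⟨isSymmetric_gram hsA hA, isSymmetric_gram hsB hB⟩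
    · rw [neg_one_smul] at hsA hsB
      have hdg : ∀ {a : ℕ} {A : Matrix (Fin a) (Fin a) F}, Aᵀ = -A → ∀ i, A i i = 0 := fun {a A} h i =>
        eq_zero_of_two_mul hodd (by simpa using congrFun (congrFun h i) i)
      exact Or.inr ⟨isSymplectic_gram hsA (gramForm_self_eq_zero hsA (hdg hsA)) hA,
        isSymplectic_gram hsB (gramForm_self_eq_zero hsB (hdg hsB)) hB⟩
  have hl2 : 2 ≤ l := by omega
  rcases le_or_gt m l with hml | hml
  · refine InGeometric.tensor hm hml (hforms G₁ C hd1 hd2 hs1 hs2) hnot (e := ε) (P := P)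
      ⟨1, one_ne_zero, fun x y => ?_⟩ hle
    rw [gramForm_in, hfac, gramMatrix_gramForm, gramMatrix_gramForm, one_mul]
    simp [formOfGram, gramForm, dotProduct, Matrix.mulVec, Finset.mul_sum, mul_assoc]
  · refine InGeometric.tensor hl2 hml.le (hforms C G₁ hd2 hd1 hs2 hs1) (fun h => ?_)
      (e := ε.trans (Equiv.prodComm _ _)) (P := P)
      ⟨1, one_ne_zero, fun x y => ?_⟩ (hle.trans (tensorProduct_swap ε P))
    · omega
    rw [gramForm_in, gramIn_swap ε P hfac, gramMatrix_gramForm, gramMatrix_gramForm, one_mul]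
    simp [formOfGram, gramForm, dotProduct, Matrix.mulVec, Finset.mul_sum, mul_assoc]

end Cfsg.Agent.Lib.AschbacherOrth
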